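import Groth.Prelude.Def_Coh
import Groth.Prelude.Def_CohB1
import Groth.Prelude.Def_Pic
import Groth.Prelude.Def_ClSub2
import Groth.Prelude.Def_LogNCD2
import Mathlib.AlgebraicGeometry.Morphisms.Proper
import Mathlib.AlgebraicGeometry.Morphisms.Smooth
import Mathlib.FieldTheory.IsAlgClosed.Basic
import Mathlib.Algebra.CharP.Defs
import Mathlib.Topology.KrullDimension

/-!
# Interfaces (as `Prop`s) for the vanishing theorems without Hironaka

`K909.AltInterface.Alt k`: strict normal crossing alterations of projective varieties.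
`K909.AltInterface.Desc k`: surjectivity (and vanishing) in cohomology descends along alterations between
projective manifolds.  Both are for `k` algebraically closed of characteristic zero.
-/

set_option autoImplicit false
universe u
open CategoryTheory CategoryTheory.Limits AlgebraicGeometry

namespace K909.AltInterface

/-- (ALT) every projective variety `X` over `k` (integral, proper, with an ample module) and every proper closed subset
`Z` admit an alteration `π : X₁ ⟶ X` by a projective manifold `X₁` (`π` surjective, `dim X₁ = dim X`) such that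
`π⁻¹ Z` is contained in the support of a strict normal crossing divisor with integral components. -/
def Alt (k : Type u) [Field k] : Prop :=
  ∀ (X : Scheme.{u}) (f : X ⟶ Spec (CommRingCat.of k)) [IsIntegral X] [IsProper f] (A : X.Modules),
    CohB1.IsAmple A → ∀ Z : Set X, IsClosed Z → Z ≠ Set.univ →
    ∃ (X₁ : Scheme.{u}) (π : X₁ ⟶ X) (A₁ : X₁.Modules) (r : ℕ) (D : Fin r → X₁.IdealSheafData),
      IsIntegral X₁ ∧ Smooth (π ≫ f) ∧ IsProper π ∧ Surjective π ∧
      topologicalKrullDim X₁ = topologicalKrullDim X ∧ CohB1.IsAmple A₁ ∧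
      LogNCD.IsNCD D (π ≫ f) ∧ (∀ i, IsIntegral (D i).subscheme) ∧
      ∀ x₁ : X₁, π x₁ ∈ Z → ∃ i, x₁ ∈ (D i).support

/-- (DESC) for an alteration `π : X₁ ⟶ X` between projective manifolds, surjectivity of `H^b(φ)` for a morphism `φ` of
invertible modules on `X` may be tested after pull-back to `X₁` (and so may vanishing of `H^b(X, M)`). -/
def Desc (k : Type u) [Field k] : Prop :=
  ∀ (X X₁ : Scheme.{u}) (f : X ⟶ Spec (CommRingCat.of k)) (π : X₁ ⟶ X) [IsIntegral X] [IsIntegral X₁]
    [IsProper f] [Smooth f] [IsProper π] [Smooth (π ≫ f)] [Surjective π],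
    topologicalKrullDim X₁ = topologicalKrullDim X →
    (∃ A : X.Modules, CohB1.IsAmple A) → (∃ A₁ : X₁.Modules, CohB1.IsAmple A₁) →
    (∀ (M N : X.Modules) (φ : M ⟶ N) (b : ℕ), PicF.IsInvertible M → PicF.IsInvertible N →
      Function.Surjective (Sheaf.H.map ((SheafOfModules.toSheaf X₁.ringCatSheaf).map
        ((Scheme.Modules.pullback π).map φ)) b) →
      Function.Surjective (Sheaf.H.map ((SheafOfModules.toSheaf X.ringCatSheaf).map φ) b)) ∧
    (∀ (M : X.Modules) (b : ℕ), PicF.IsInvertible M →
      Subsingleton (Coh.HH X₁ ((Scheme.Modules.pullback π).obj M) b) → Subsingleton (Coh.HH X M b))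

/-- (ALT) for one variety `f : X ⟶ Spec k`. -/
def AltFor {k : Type u} [Field k] {X : Scheme.{u}} (f : X ⟶ Spec (CommRingCat.of k)) : Prop :=
  ∀ Z : Set X, IsClosed Z → Z ≠ Set.univ →
    ∃ (X₁ : Scheme.{u}) (π : X₁ ⟶ X) (A₁ : X₁.Modules) (r : ℕ) (D : Fin r → X₁.IdealSheafData),
      IsIntegral X₁ ∧ Smooth (π ≫ f) ∧ IsProper π ∧ Surjective π ∧
      topologicalKrullDim X₁ = topologicalKrullDim X ∧ CohB1.IsAmple A₁ ∧
      LogNCD.IsNCD D (π ≫ f) ∧ (∀ i, IsIntegral (D i).subscheme) ∧
      ∀ x₁ : X₁, π x₁ ∈ Z → ∃ i, x₁ ∈ (D i).support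

/-- (ALT) for all projective varieties of dimension `n`. -/
def AltDim (k : Type u) [Field k] (n : ℕ) : Prop :=
  ∀ (X : Scheme.{u}) (f : X ⟶ Spec (CommRingCat.of k)) [IsIntegral X] [IsProper f] (A : X.Modules),
    CohB1.IsAmple A → topologicalKrullDim X = n → AltFor f

/-- (ALT) for projective space of dimension `n`.  Step (D), helper909: `AltDim k n → AltPn k (n + 1)` (and `AltPn k 0`);
step (E), helper660: `AltPn k n → AltDim k n`, for `k` algebraically closed of characteristic zero. -/
def AltPn (k : Type u) [Field k] (n : ℕ) : Prop := AltFor (CohB1.ProjSpace.toSpec n k)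

/-- `Alt k` from all `AltDim k n`, given finiteness of the dimension. -/
theorem alt_of_altDim {k : Type u} [Field k] (h : ∀ n, AltDim k n)
    (hfin : ∀ (X : Scheme.{u}) (f : X ⟶ Spec (CommRingCat.of k)) [IsIntegral X] [IsProper f],
      ∃ n : ℕ, topologicalKrullDim X = n) : Alt k := by
  intro X f _ _ A hA Z hZ hZ'
  obtain ⟨n, hn⟩ := hfin X f
  exact h n X f A hA hn Z hZ hZ'

end K909.AltInterface
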