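import Groth.Agent.Vanish.K909.GrowthNef
import Groth.Agent.Surf.K461.SerreDual
import Groth.Agent.Surf.K455.RelDim
import Groth.Agent.Vancyc.H878.OmegaRank
import Groth.Agent.Krr.H495.ExtExist
import Groth.Agent.Krr.H495.Rank
import Groth.Prelude.Def_ClSub2
import Mathlib.FieldTheory.IsAlgClosed.Basic
import Mathlib.Algebra.CharP.Defs

/-!
# Kodaira vanishing in dual form, growth for nef modules on projective manifolds
-/

set_option autoImplicit false
universe u
open CategoryTheory CategoryTheory.Limits AlgebraicGeometry Opposite TopologicalSpace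

namespace K909.KodDual

open Groth.Agent Groth.Agent.Ega2 Groth.Agent.Fdesc.LocGen Groth.Agent.Fga.PicMon Groth.Agent.Grpsch.PicGrp
open K909.Kleiman K909.Fujita K909.GrowthNef

/-- Kodaira vanishing over `k` (the statement of S16888). -/
def Kod (k : Type u) [Field k] : Prop :=
  ∀ (X : Scheme.{u}) [X.Over (Spec (CommRingCat.of k))] [IsProper (X ↘ Spec (CommRingCat.of k))]
    [Smooth (X ↘ Spec (CommRingCat.of k))] [IrreducibleSpace X] (n : ℕ) (_ : topologicalKrullDim X = n)
    (L Linv : X.Modules) (_ : CohB1.IsAmple L) (_ : ClSub.IsInverseOf Linv L) (b : ℕ) (_ : b < n),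
    Subsingleton (Coh.HH X Linv b)

section

variable {X : Scheme.{u}}

/-- The top exterior power of a finite locally free module is invertible. -/
theorem isInvertible_extPow {m : ℕ} {E L : X.Modules} (hE : FlatMod.IsFinLocFreeOfRank m E)
    (hL : ExtPow.IsExtPow m E L) : PicF.IsInvertible L := by
  rw [← Ega2.QCohLocal.isFinLocFreeOfRank_one_iff, Krr.H495.Rank.isFinLocFreeOfRank_iff]
  have hE' := Krr.H495.Rank.isFinLocFree_of_rank hE
  refine ⟨Sga67.LocBasis.isFinLocFree_of_isExtPow hE' hL, fun x => ?_⟩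
  rw [Krr.H495.Rank.rk_extPow hE' hL, Krr.H495.Rank.rk_of_rank hE, Nat.choose_self]

end

variable (k : Type u) [Field k] (X : Scheme.{u}) [X.Over (Spec (CommRingCat.of k))]
  [IsProper (X ↘ Spec (CommRingCat.of k))] [Smooth (X ↘ Spec (CommRingCat.of k))] [IrreducibleSpace X]
  (n : ℕ) (hn : topologicalKrullDim X = n)

include hn in
theorem relDim : SmoothOfRelativeDimension n (X ↘ Spec (CommRingCat.of k)) := by
  have := Fga.IntAdd.isNoetherian k X
  refine K455.RelDim.smoothOfRelativeDimension k _ n fun Z hZ => ?_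
  have h : Z = Set.univ := by
    rw [irreducibleComponents_eq_singleton] at hZ
    exact hZ
  rw [h, IsHomeomorph.topologicalKrullDim_eq _ (Homeomorph.Set.univ X).isHomeomorph, hn]

include hn in
/-- **Kodaira vanishing, dual form.** -/
theorem exists_dual (kod : Kod.{u} k) : ∃ W : X.Modules, PicF.IsInvertible W ∧
    ExtPow.IsExtPow n (Omega.sheaf (X ↘ Spec (CommRingCat.of k))) W ∧
    ∀ M : X.Modules, CohB1.IsAmple M → ∀ i : ℕ, 1 ≤ i → Subsingleton (Coh.HH X (CohB1.tensorMod W M) i) := by
  have := relDim k X n hn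
  have := Fga.IntAdd.isNoetherian k X
  have hΩ := Vancyc.H878.OmegaRank.isFinLocFreeOfRank_omega n (X ↘ Spec (CommRingCat.of k))
  obtain ⟨W, -, hW⟩ := Krr.H495.ExtExist.exists_isExtPow n _ (Krr.H495.Rank.isFinLocFree_of_rank hΩ)
  have hWi := isInvertible_extPow hΩ hW
  refine ⟨W, hWi, hW, fun M hM i hi => ?_⟩
  rcases le_or_gt i n with hin | hin
  · have hinv : ClSub.IsInverseOf (dual M) M := by
      have h1 : mk (dual M) (isInvertible_dual hM.1) * mk M hM.1 = 1 := by rw [← inv_mk hM.1, inv_mul_cancel]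
      rw [mk_mul_mk] at h1
      exact (mk_eq_one_iff _).mp h1
    have h1 := kod X n hn M (dual M) hM hinv (n - i) (by omega)
    have hq : Coh.IsQCoh (dual M) := (Fga.HodgeSec.isCoh_of_isInvertible (isInvertible_dual hM.1)).1
    obtain ⟨e⟩ := K461.SerreDual.nonempty_dual_equiv k n hW hinv hq i (n - i) (by omega)
    have h2 : Subsingleton (Module.Dual k (Coh.HH X (dual M) (n - i))) := by
      refine ⟨fun a b => ?_⟩
      ext x
      rw [Subsingleton.elim x 0, map_zero, map_zero]
    exact e.symm.toEquiv.subsingleton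
  · exact Fga.EulerLEAdd.subsingleton_HH X n hn.le _ i (by omega)

end K909.KodDual
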