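import Groth.Agent.Fga.MultForm
import Groth.Agent.Fga.DimLt
import Groth.Agent.Fga.IntegralSub
import Groth.Agent.CohqB.DevSimple
import Groth.Agent.CycB.ClosSheaf

/-!
# Non-negativity of additive functions on coherent modules is tested on integral closed subschemes

`φ` additive on coherent modules over a Noetherian scheme, zero on those of dimension `< r`.  If `φ(O_Z) ≥ 0` for
every integral closed subscheme `Z` of dimension `r`, then `φ F ≥ 0` for every coherent `F` with `dim Supp F ≤ r`.
-/

set_option autoImplicit false
universe u
open CategoryTheory CategoryTheory.Limits AlgebraicGeometry Opposite TopologicalSpace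

namespace K909.DevNonneg

open Groth.Agent Groth.Agent.Fga.MultForm Groth.Agent.Fga

/-- In a Noetherian space, a closed subset of dimension `≤ r` has finitely many points with `r`-dimensional closure. -/
theorem finite_top {X : Type*} [TopologicalSpace X] [NoetherianSpace X] [T0Space X] (T : Set X) (hTc : IsClosed T)
    (r : ℕ) (hT : topologicalKrullDim T ≤ r) :
    {y : X | y ∈ T ∧ topologicalKrullDim (closure {y} : Set X) = r}.Finite := by
  have hfin : (irreducibleComponents T).Finite := NoetherianSpace.finite_irreducibleComponents
  refine Set.Finite.of_finite_image (f := fun y => (Subtype.val ⁻¹' (closure {y}) : Set T)) (hfin.subset ?_) ?_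
  · rintro _ ⟨y, ⟨hyT, hyd⟩, rfl⟩
    have hsub : closure {y} ⊆ T := closure_minimal (Set.singleton_subset_iff.mpr hyT) hTc
    have himg : Subtype.val '' (Subtype.val ⁻¹' (closure {y}) : Set T) = closure {y} := by
      rw [Subtype.image_preimage_coe, Set.inter_eq_right]
      exact hsub
    have hirr : IsIrreducible (Subtype.val ⁻¹' (closure {y}) : Set T) := by
      have h1 : (Subtype.val ⁻¹' (closure {y}) : Set T) = closure {⟨y, hyT⟩} := by
        rw [Topology.IsInducing.subtypeVal.closure_eq_preimage_closure_image, Set.image_singleton]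
      rw [h1]
      exact isIrreducible_singleton.closure
    refine ⟨hirr, fun W hW hle => ?_⟩
    by_contra hcon
    -- `closure W` is bigger and irreducible
    let W' : Set X := closure (Subtype.val '' W)
    have hW'irr : IsIrreducible W' := (hW.image _ continuous_subtype_val.continuousOn).closure
    have hW'T : W' ⊆ T := closure_minimal (by rintro _ ⟨w, -, rfl⟩; exact w.2) hTc
    have hyW' : closure {y} ⊆ W' := by
      have h2 : Subtype.val '' (Subtype.val ⁻¹' (closure {y}) : Set T) ⊆ Subtype.val '' W := Set.image_mono hle
      rw [himg] at h2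
      exact h2.trans subset_closure
    have hne : (closure {y} : Set X) ≠ W' := by
      intro heq
      refine hcon fun w hw => ?_
      have : w.1 ∈ W' := subset_closure ⟨w, hw, rfl⟩
      rw [← heq] at this
      exact this
    have hdW' : topologicalKrullDim W' ≤ r := (DimLt.topologicalKrullDim_mono hW'T).trans hT
    have := DimLt.topologicalKrullDim_lt hW'irr isClosed_closure hyW' hne
      (d := r) (lt_of_le_of_lt hdW' (by exact_mod_cast Nat.lt_succ_self r))
    rw [hyd] at this
    exact lt_irrefl _ this
  · rintro y ⟨hyT, -⟩ z ⟨hzT, -⟩ heq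
    have hy : (⟨y, hyT⟩ : T) ∈ (Subtype.val ⁻¹' (closure {y}) : Set T) := subset_closure rfl
    have hz : (⟨z, hzT⟩ : T) ∈ (Subtype.val ⁻¹' (closure {z}) : Set T) := subset_closure rfl
    simp only at heq
    rw [heq] at hy
    rw [← heq] at hz
    exact ((specializes_iff_mem_closure.mpr hz).antisymm (specializes_iff_mem_closure.mpr hy)).eq

variable {X : Scheme.{u}}

/-- **Length formula** for additive functions vanishing in dimension `< r`. -/
theorem length_sum [IsNoetherian X] (φ : X.Modules → ℤ) (hφ : ChiBasic.IsAdd φ) (r : ℕ)
    (hvan : ∀ F : X.Modules, Coh.IsCoh F → topologicalKrullDim (CohB1.support F) < r → φ F = 0)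
    (T : Set X) (hTc : IsClosed T) (hT : topologicalKrullDim T ≤ r) (S : Finset X)
    (hS : ∀ y, y ∈ S ↔ y ∈ T ∧ topologicalKrullDim (closure {y} : Set X) = r)
    (G : X → X.Modules) (hG : ∀ y ∈ T, Coh.IsCoh (G y)) (hGs : ∀ y ∈ T, CohB1.support (G y) ⊆ closure {y})
    (hGsimple : ∀ y ∈ T, IsSimpleModule (X.presheaf.stalk y) ((G y).presheaf.stalk y))
    (F : X.Modules) (hF : Coh.IsCoh F) (hFT : CohB1.support F ⊆ T) :
    (∀ y ∈ S, len F y ≠ ⊤) ∧ φ F = ∑ y ∈ S, ((len F y).toNat : ℤ) * φ (G y) := by
  refine Ega3B.Devissage.devissage T hTc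
    (fun F => (∀ y ∈ S, len F y ≠ ⊤) ∧ φ F = ∑ y ∈ S, ((len F y).toNat : ℤ) * φ (G y)) ?_ ?_ ?_ F hF hFT
  · intro M hM
    have h0 : ∀ y, len M y = 0 := fun y => len_eq_zero (by
      rw [CohqB.DevSupport.support_eq_empty_of_isZero hM]; exact Set.notMem_empty y)
    refine ⟨fun y _ => by rw [h0]; simp, ?_⟩
    rw [ChiBasic.chi_isZero hφ hM]
    symm
    exact Finset.sum_eq_zero fun y _ => by rw [h0]; simp
  · intro Sq hSq h1 h2 h3 _
    have hadd := hφ Sq hSq h1 h2 h3
    have hlen := fun y => len_shortExact hSq y
    refine ⟨?_, ?_, ?_⟩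
    · rintro ⟨t1, e1⟩ ⟨t2, e2⟩
      have t3 : ∀ y ∈ S, len Sq.X₃ y ≠ ⊤ := by
        rintro y hy h
        exact t2 y hy (by rw [hlen, h, add_top])
      refine ⟨t3, ?_⟩
      have e3 : φ Sq.X₃ = φ Sq.X₂ - φ Sq.X₁ := by linarith
      rw [e3, e1, e2, ← Finset.sum_sub_distrib]
      refine Finset.sum_congr rfl fun y hy => ?_
      rw [hlen, ENat.toNat_add (t1 y hy) (t3 y hy)]
      push_cast
      ring
    · rintro ⟨t1, e1⟩ ⟨t3, e3⟩
      refine ⟨fun y hy => by rw [hlen]; simpa using ⟨t1 y hy, t3 y hy⟩, ?_⟩
      rw [hadd, e1, e3, ← Finset.sum_add_distrib]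
      refine Finset.sum_congr rfl fun y hy => ?_
      rw [hlen, ENat.toNat_add (t1 y hy) (t3 y hy)]
      push_cast
      ring
    · rintro ⟨t2, e2⟩ ⟨t3, e3⟩
      have t1 : ∀ y ∈ S, len Sq.X₁ y ≠ ⊤ := by
        rintro y hy h
        exact t2 y hy (by rw [hlen, h, top_add])
      refine ⟨t1, ?_⟩
      have e1 : φ Sq.X₁ = φ Sq.X₂ - φ Sq.X₃ := by linarith
      rw [e1, e2, e3, ← Finset.sum_sub_distrib]
      refine Finset.sum_congr rfl fun y hy => ?_
      rw [hlen, ENat.toNat_add (t1 y hy) (t3 y hy)]
      push_cast
      ring
  · intro y hy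
    refine ⟨G y, hG y hy, ⟨?_, ?_⟩, hGs y hy, hGsimple y hy⟩
    · intro z hz
      by_cases hzy : z = y
      · subst hzy
        rw [show len (G z) z = 1 from Module.length_eq_one_iff.mpr (hGsimple z hy)]
        simp
      · rw [len_eq_zero]
        · simp
        · intro hzs
          have hzc : closure {z} ⊆ (closure {y} : Set X) :=
            closure_minimal (Set.singleton_subset_iff.mpr (hGs y hy hzs)) isClosed_closure
          have hne : (closure {z} : Set X) ≠ closure {y} := by
            intro heq
            apply hzy
            have h1 : z ∈ closure {y} := hGs y hy hzs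
            have h2 : y ∈ closure {z} := by rw [heq]; exact subset_closure rfl
            exact ((specializes_iff_mem_closure.mpr h2).antisymm (specializes_iff_mem_closure.mpr h1)).eq
          have hyT : closure {y} ⊆ T := closure_minimal (Set.singleton_subset_iff.mpr hy) hTc
          have hd : topologicalKrullDim (closure {y} : Set X) ≤ r := (DimLt.topologicalKrullDim_mono hyT).trans hT
          have := DimLt.topologicalKrullDim_lt (isIrreducible_singleton.closure) isClosed_closure hzc hne
            (d := r) (lt_of_le_of_lt hd (by exact_mod_cast Nat.lt_succ_self r))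
          rw [((hS z).mp hz).2] at this
          exact lt_irrefl _ this
    · by_cases hyS : y ∈ S
      · rw [Finset.sum_eq_single y]
        · rw [show len (G y) y = 1 from Module.length_eq_one_iff.mpr (hGsimple y hy)]
          simp
        · intro z hz hzy
          rw [len_eq_zero]
          · simp
          · intro hzs
            have hzc : closure {z} ⊆ (closure {y} : Set X) :=
              closure_minimal (Set.singleton_subset_iff.mpr (hGs y hy hzs)) isClosed_closure
            have hne : (closure {z} : Set X) ≠ closure {y} := by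
              intro heq
              apply hzy
              have h1 : z ∈ closure {y} := hGs y hy hzs
              have h2 : y ∈ closure {z} := by rw [heq]; exact subset_closure rfl
              exact ((specializes_iff_mem_closure.mpr h2).antisymm (specializes_iff_mem_closure.mpr h1)).eq
            have hyT : closure {y} ⊆ T := closure_minimal (Set.singleton_subset_iff.mpr hy) hTc
            have hd : topologicalKrullDim (closure {y} : Set X) ≤ r := (DimLt.topologicalKrullDim_mono hyT).trans hT
            have := DimLt.topologicalKrullDim_lt (isIrreducible_singleton.closure) isClosed_closure hzc hne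
              (d := r) (lt_of_le_of_lt hd (by exact_mod_cast Nat.lt_succ_self r))
            rw [((hS z).mp hz).2] at this
            exact lt_irrefl _ this
        · intro h; exact absurd hyS h
      · have hyT : closure {y} ⊆ T := closure_minimal (Set.singleton_subset_iff.mpr hy) hTc
        have hd : topologicalKrullDim (closure {y} : Set X) ≤ r := (DimLt.topologicalKrullDim_mono hyT).trans hT
        have hd' : topologicalKrullDim (closure {y} : Set X) < r := lt_of_le_of_ne hd fun h => hyS ((hS y).mpr ⟨hy, h⟩)
        rw [hvan (G y) (hG y hy) (lt_of_le_of_lt (DimLt.topologicalKrullDim_mono (hGs y hy)) hd')]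
        symm
        refine Finset.sum_eq_zero fun z hz => ?_
        rw [len_eq_zero]
        · simp
        · intro hzs
          have hzc : closure {z} ⊆ (closure {y} : Set X) :=
            closure_minimal (Set.singleton_subset_iff.mpr (hGs y hy hzs)) isClosed_closure
          have := lt_of_le_of_lt (DimLt.topologicalKrullDim_mono hzc) hd'
          rw [((hS z).mp hz).2] at this
          exact lt_irrefl _ this

/-- **Non-negativity is tested on integral closed subschemes of top dimension.** -/
theorem nonneg_of_integral [IsNoetherian X] (φ : X.Modules → ℤ) (hφ : ChiBasic.IsAdd φ) (r : ℕ)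
    (hvan : ∀ F : X.Modules, Coh.IsCoh F → topologicalKrullDim (CohB1.support F) < r → φ F = 0)
    (hint : ∀ (Z : Scheme.{u}) (i : Z ⟶ X) [IsClosedImmersion i] [IsIntegral Z],
      topologicalKrullDim Z = r → 0 ≤ φ ((Coh.push i).obj (Coh.structureModule Z)))
    (F : X.Modules) (hF : Coh.IsCoh F) (hr : topologicalKrullDim (CohB1.support F) ≤ r) : 0 ≤ φ F := by
  classical
  have hTc := Ega3B.Devissage.isClosed_support hF
  choose Z i hi hZ hgen hrange using fun y : X => IntegralSub.exists_integral_closed y
  have hfin := finite_top (CohB1.support F) hTc r hr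
  have h := length_sum φ hφ r hvan (CohB1.support F) hTc hr hfin.toFinset (fun y => by simp)
    (fun y => (Coh.push (i y)).obj (Coh.structureModule (Z y)))
    (fun y _ => by
      have := hi y
      exact CycB.ClosSheaf.isCoh_push_structureModule (i y))
    (fun y _ => by
      have := hi y
      rw [← hrange y]
      exact CohqB.DevSimple.support_push_subset_range (i y) _)
    (fun y _ => by
      have := hi y
      have := hZ y
      have hne : Nonempty ((⊤ : (Z y).Opens) : Scheme.{u}) := ⟨⟨genericPoint (Z y), trivial⟩⟩
      have h := CohqB.DevSimple.isSimpleModule_stalk_push (i y) (Coh.structureModule (Z y)) ⊤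
        ⟨Scheme.Modules.restrictUnitIso _⟩
      rw [hgen y] at h
      exact h) F hF subset_rfl
  rw [h.2]
  refine Finset.sum_nonneg fun y hy => mul_nonneg (Int.natCast_nonneg _) ?_
  have hy2 : topologicalKrullDim (closure {y} : Set X) = r := ((Set.Finite.mem_toFinset _).mp hy).2
  have := hi y
  have := hZ y
  refine hint (Z y) (i y) ?_
  rw [← hy2, ← hrange y]
  exact IsHomeomorph.topologicalKrullDim_eq _ (i y).isClosedEmbedding.isEmbedding.toHomeomorph.isHomeomorph

end K909.DevNonneg
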