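import Groth.Agent.Pic13.H970.IntForm
import Groth.Agent.Fga.PosMain
import Groth.Agent.Fga.MultFinal
import Mathlib.LinearAlgebra.Multilinear.Basic

/-!
# Intersection numbers `(c₁ ⋯ c_r · F)` as symmetric multilinear forms on the Picard group

* `inter k X d F c = (c₁ ⋯ c_r · F)` for `c : Fin r → Pic X` (the symbol `I` of `Pic13.H970.IntForm` at the inverses);
* `inter_perm`, `inter_cons_mul`, `inter_eq_zero`, `exists_perm_cons`;
* `ml`: the multilinear form on `Additive (Pic X)` for `F` coherent with `dim Supp F ≤ r`;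
* `exists_cut`: cutting by an ample class.
-/

set_option autoImplicit false
universe u
open CategoryTheory CategoryTheory.Limits AlgebraicGeometry

namespace K909.InterML

open Groth.Agent Groth.Agent.Pic13.H970.IntForm Groth.Agent.Fga.PicMon Groth.Agent.Fga.AltSum
  Groth.Agent.Grpsch.PicGrp Groth.Agent.Fga.RegSec Groth.Agent.Fga.IntAdd

section general

variable (k : Type u) [Field k] (X : Scheme.{u}) [X.Over (Spec (CommRingCat.of k))] (d : ℕ) (F : X.Modules)

/-- `(c₁ ⋯ c_r · F)`. -/
noncomputable def inter {r : ℕ} (c : Fin r → Pic X) : ℤ := I k X d F (fun i => (c i)⁻¹)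

theorem inter_eq_I {r : ℕ} (c : Fin r → Pic X) : inter k X d F c = I k X d F (fun i => (c i)⁻¹) := rfl

theorem inv_cons {r : ℕ} (a : Pic X) (c : Fin r → Pic X) :
    (fun i => ((Fin.cons a c : Fin (r + 1) → Pic X) i)⁻¹) =
      (Fin.cons a⁻¹ (fun i => (c i)⁻¹) : Fin (r + 1) → Pic X) := by
  funext i
  cases i using Fin.cases with
  | zero => rfl
  | succ i => rfl

theorem inter_cons {r : ℕ} (a : Pic X) (c : Fin r → Pic X) :
    inter k X d F (Fin.cons a c : Fin (r + 1) → Pic X) =
      I k X d F (Fin.cons a⁻¹ (fun i => (c i)⁻¹) : Fin (r + 1) → Pic X) := by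
  unfold inter; rw [inv_cons]

theorem inter_perm {r : ℕ} (c : Fin r → Pic X) (σ : Equiv.Perm (Fin r)) :
    inter k X d F (fun i => c (σ i)) = inter k X d F c :=
  I_perm k X d F (fun i => (c i)⁻¹) σ

/-- Any entry can be moved to the front, uniformly in its value. -/
theorem exists_front {r : ℕ} (c : Fin (r + 1) → Pic X) (i : Fin (r + 1)) :
    ∃ c' : Fin r → Pic X, (∀ j, ∃ j', j' ≠ i ∧ c' j = c j') ∧
      ∀ x : Pic X, inter k X d F (Function.update c i x) = inter k X d F (Fin.cons x c' : Fin (r + 1) → Pic X) := by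
  classical
  refine ⟨fun j => c (Equiv.swap 0 i j.succ), fun j => ⟨Equiv.swap 0 i j.succ, ?_, rfl⟩, fun x => ?_⟩
  · intro h
    have h2 : Equiv.swap 0 i j.succ = Equiv.swap 0 i 0 := by rw [h, Equiv.swap_apply_left]
    exact Fin.succ_ne_zero j ((Equiv.swap 0 i).injective h2)
  · rw [← inter_perm k X d F (Function.update c i x) (Equiv.swap 0 i)]
    congr 1
    funext j
    cases j using Fin.cases with
    | zero => rw [Equiv.swap_apply_left, Function.update_self, Fin.cons_zero]
    | succ j =>
      rw [Function.update_of_ne, Fin.cons_succ]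
      intro h
      have h2 : Equiv.swap 0 i j.succ = Equiv.swap 0 i 0 := by rw [h, Equiv.swap_apply_left]
      exact Fin.succ_ne_zero j ((Equiv.swap 0 i).injective h2)

theorem exists_front' {r : ℕ} (c : Fin (r + 1) → Pic X) (i : Fin (r + 1)) :
    ∃ c' : Fin r → Pic X, (∀ j, ∃ j', j' ≠ i ∧ c' j = c j') ∧
      inter k X d F c = inter k X d F (Fin.cons (c i) c' : Fin (r + 1) → Pic X) := by
  obtain ⟨c', h1, h2⟩ := exists_front k X d F c i
  refine ⟨c', h1, ?_⟩
  rw [← h2, Function.update_eq_self]

theorem inter_iso {G : X.Modules} (e : F ≅ G) {r : ℕ} (c : Fin r → Pic X) :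
    inter k X d F c = inter k X d G c := by
  unfold inter I
  rw [chiCl_iso k X d e]

theorem inter_zero (c : Fin 0 → Pic X) : inter k X d F c = FGA.eulerCharLE k X F d := by
  unfold inter I
  rw [dSum_zero, chiCl_one]

theorem inter_mk {r : ℕ} (M N : Fin r → X.Modules) (hM : ∀ i, PicF.IsInvertible (M i)) (hN : ∀ i, PicF.IsInvertible (N i))
    (h : ∀ i, Nonempty (CohB1.tensorMod (M i) (N i) ≅ Coh.structureModule X)) :
    inter k X d F (fun i => mk (M i) (hM i)) = FGA.intNum k X d N F := by
  rw [intNum_eq k X d F N hN]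
  unfold inter
  congr 1
  funext i
  rw [inv_eq_iff_mul_eq_one]
  exact mk_congr (h i).some

end general

section proper

variable (k : Type u) [Field k] (X : Scheme.{u}) [X.Over (Spec (CommRingCat.of k))]
  [IsProper (X ↘ Spec (CommRingCat.of k))] (d : ℕ) (hd : topologicalKrullDim X ≤ d) (F : X.Modules) (hF : Coh.IsCoh F)

include hd hF

theorem inter_eq_zero {r : ℕ} (c : Fin r → Pic X) (hr : topologicalKrullDim (CohB1.support F) < r) :
    inter k X d F c = 0 := I_eq_zero k X d hd F hF _ hr

theorem inter_cons_mul {r : ℕ} (a b : Pic X) (c : Fin r → Pic X)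
    (hr : topologicalKrullDim (CohB1.support F) ≤ (r + 1 : ℕ)) :
    inter k X d F (Fin.cons (a * b) c : Fin (r + 1) → Pic X) =
      inter k X d F (Fin.cons a c : Fin (r + 1) → Pic X) + inter k X d F (Fin.cons b c : Fin (r + 1) → Pic X) := by
  rw [inter_cons, inter_cons, inter_cons, mul_inv]
  exact I_cons_mul k X d hd F hF _ _ _ hr

theorem inter_cons_zpow {r : ℕ} (a : Pic X) (n : ℤ) (c : Fin r → Pic X)
    (hr : topologicalKrullDim (CohB1.support F) ≤ (r + 1 : ℕ)) :
    inter k X d F (Fin.cons (a ^ n) c : Fin (r + 1) → Pic X) =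
      n * inter k X d F (Fin.cons a c : Fin (r + 1) → Pic X) := by
  rw [inter_cons, inter_cons, ← inv_zpow]
  exact I_cons_zpow k X d hd F hF _ _ _ hr

/-- The intersection form as a multilinear map. -/
noncomputable def ml {r : ℕ} (hr : topologicalKrullDim (CohB1.support F) ≤ r) :
    MultilinearMap ℤ (fun _ : Fin r => Additive (Pic X)) ℤ where
  toFun v := inter k X d F (fun i => (v i).toMul)
  map_update_add' := by
    intro hdec v i x y
    have hup : ∀ z : Additive (Pic X), (fun j => (Function.update v i z j).toMul) =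
        Function.update (fun j => (v j).toMul) i z.toMul := by
      intro z
      funext j
      by_cases hj : j = i
      · subst hj; simp
      · rw [Function.update_of_ne hj, Function.update_of_ne hj]
    rw [hup, hup, hup]
    cases r with
    | zero => exact i.elim0
    | succ r =>
      obtain ⟨c', -, h⟩ := exists_front k X d F (fun j => (v j).toMul) i
      have hdd : hdec = instDecidableEqFin (r + 1) := Subsingleton.elim _ _
      subst hdd
      rw [h, h, h, toMul_add]
      exact inter_cons_mul k X d hd F hF _ _ _ hr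
  map_update_smul' := by
    intro hdec v i n x
    have hup : ∀ z : Additive (Pic X), (fun j => (Function.update v i z j).toMul) =
        Function.update (fun j => (v j).toMul) i z.toMul := by
      intro z
      funext j
      by_cases hj : j = i
      · subst hj; simp
      · rw [Function.update_of_ne hj, Function.update_of_ne hj]
    rw [hup, hup]
    cases r with
    | zero => exact i.elim0
    | succ r =>
      obtain ⟨c', -, h⟩ := exists_front k X d F (fun j => (v j).toMul) i
      have hdd : hdec = instDecidableEqFin (r + 1) := Subsingleton.elim _ _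
      subst hdd
      rw [h, h, toMul_zsmul, smul_eq_mul]
      exact inter_cons_zpow k X d hd F hF _ _ _ hr

theorem ml_apply {r : ℕ} (hr : topologicalKrullDim (CohB1.support F) ≤ r) (v : Fin r → Additive (Pic X)) :
    ml k X d hd F hF hr v = inter k X d F (fun i => (v i).toMul) := rfl

omit hF in
theorem isAdd_inter {r : ℕ} (c : Fin r → Pic X) : Fga.ChiBasic.IsAdd (X := X) (fun G => inter k X d G c) := by
  obtain ⟨M, hM, h⟩ := exists_rep X (fun i => (c i)⁻¹)
  have : (fun G => inter k X d G c) = fun G => FGA.intNum k X d M G := by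
    funext G
    unfold inter
    rw [h, intNum_eq k X d G M hM]
  rw [this]
  exact Fga.IntAdd.isAdd_intNum k X d hd M hM

/-- Cutting by an ample class: `(n + 1) (a · c · F) = (c · G)` with `dim Supp G = dim Supp F - 1`. -/
theorem exists_cut (L : X.Modules) (hL : CohB1.IsAmple L) {r : ℕ}
    (hr : topologicalKrullDim (CohB1.support F) = (r + 1 : ℕ)) :
    ∃ (n : ℕ) (G : X.Modules), Coh.IsCoh G ∧ topologicalKrullDim (CohB1.support G) = r ∧
      ∀ c : Fin r → Pic X, ((n : ℤ) + 1) * inter k X d F (Fin.cons (mk L hL.1) c : Fin (r + 1) → Pic X) =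
        inter k X d G c := by
  have := Fga.IntAdd.isNoetherian k X
  obtain ⟨n, s, hmono, hdim⟩ := Fga.HypSec.exists_cut k X L hL F hF r hr
  have hN : PicF.IsInvertible (CohB1.tensorPow L (n + 1)) := Fdesc.LocGen.isInvertible_tensorPow hL.1 _
  have hP : PicF.IsInvertible (CohB1.tensorPow (dual L) (n + 1)) :=
    Fdesc.LocGen.isInvertible_tensorPow (isInvertible_dual hL.1) _
  have hmul : mk L hL.1 * mk (dual L) (isInvertible_dual hL.1) = 1 := by
    rw [← inv_mk hL.1, mul_inv_cancel]
  have hPN' : mk (CohB1.tensorPow (dual L) (n + 1)) hP * mk (CohB1.tensorPow L (n + 1)) hN = 1 := by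
    rw [mk_tensorPow (isInvertible_dual hL.1), mk_tensorPow hL.1, ← mul_pow, mul_comm, hmul, one_pow]
  have hPN : mc (CohB1.tensorPow (dual L) (n + 1)) * mc (CohB1.tensorPow L (n + 1)) = 1 := by
    have := congrArg (toMC X) hPN'
    rwa [map_mul, map_one] at this
  have hPcl : mk (CohB1.tensorPow (dual L) (n + 1)) hP = ((mk L hL.1)⁻¹) ^ (n + 1) := by
    rw [mk_tensorPow (isInvertible_dual hL.1)]; rfl
  generalize hNdef : CohB1.tensorPow L (n + 1) = N at *
  generalize hPdef : CohB1.tensorPow (dual L) (n + 1) = P at *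
  have hNF : Coh.IsCoh (CohB1.tensorMod N F) :=
    Sga67.CohBasic.isCoh_of_iso (Ega2.Tens.swap F _) (Fga.TwistCoh.isCoh_tensor hF hN)
  have hC : Coh.IsCoh (cokernel (mulS s F)) := Sga67.CohBasic.isCoh_cokernel _ hF.1 hNF
  have hS : (ShortComplex.mk (mulS s F) (cokernel.π (mulS s F)) (cokernel.condition _)).ShortExact :=
    { exact := ShortComplex.exact_cokernel _
      mono_f := hmono
      epi_g := inferInstanceAs (Epi (cokernel.π (mulS s F))) }
  refine ⟨n, CohB1.tensorMod P (cokernel (mulS s F)),
    Sga67.CohBasic.isCoh_of_iso (Ega2.Tens.swap _ _) (Fga.TwistCoh.isCoh_tensor hC hP),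
    by rw [Fga.PosMain.support_tensor X hP hN hPN, hdim], fun c => ?_⟩
  have hadd := isAdd_tensor X (isAdd_inter k X d hd c) hP _ hS hF hNF hC
  have hiso : inter k X d (CohB1.tensorMod P (CohB1.tensorMod N F)) c = inter k X d F c := by
    obtain ⟨e⟩ := (mc_eq_iff (CohB1.tensorMod P (CohB1.tensorMod N F)) F).mp (by
      rw [mc_tensor, mc_tensor, ← mul_assoc, hPN, one_mul])
    exact inter_iso k X d _ e c
  simp only at hadd
  rw [hiso] at hadd
  have h1 := I_cons_mk k X d F hP (fun i => (c i)⁻¹)
  have h2 : I k X d F (Fin.cons ((mk L hL.1)⁻¹ ^ (n + 1)) (fun i => (c i)⁻¹) : Fin (r + 1) → Pic X) =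
      inter k X d (CohB1.tensorMod P (cokernel (mulS s F))) c := by
    rw [← hPcl, h1]
    change inter k X d F c - inter k X d (CohB1.tensorMod P F) c = _
    rw [hadd]
    ring
  rw [← h2, I_cons_pow k X d hd F hF _ _ _ (le_of_eq hr), inter_cons]
  push_cast
  ring

end proper

end K909.InterML
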