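import Mathlib.LinearAlgebra.Multilinear.Basic
import Mathlib.LinearAlgebra.Multilinear.Curry
import Mathlib.Topology.Algebra.Order.Archimedean
import Mathlib.Topology.Instances.Real.Lemmas
import Mathlib.Topology.Algebra.Monoid
import Mathlib.Topology.Order.IntermediateValue
import Mathlib.Analysis.SpecificLimits.Basic

/-!
# The root argument in Kleiman's theorem on nef classes

`f` an integral multilinear form on `V` in `r + 1` variables, `ℓ, a ∈ V`, all mixed values `f(.., ℓ, .., a, ..)`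
with at least one `a` non-negative, `f(a, …, a) > 0`, and `f(ℓ, x, …, x) ≥ 0` for every `x = pℓ + qa` (`p, q > 0`) with
`f(x, …, x) > 0`.  Then `f(x, …, x) > 0` for all such `x` and `f(ℓ, …, ℓ) ≥ 0`.
-/

set_option autoImplicit false

open Finset Filter Topology

namespace K909.RootArg

variable {V : Type*} [AddCommGroup V]

/-- The value of `f` with `ℓ` in the places of `s` and `a` elsewhere. -/
def mixv {r : ℕ} (f : MultilinearMap ℤ (fun _ : Fin r => V) ℤ) (ℓ a : V) (s : Finset (Fin r)) : ℤ :=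
  f (s.piecewise (fun _ => ℓ) (fun _ => a))

theorem mixv_univ {r : ℕ} (f : MultilinearMap ℤ (fun _ : Fin r => V) ℤ) (ℓ a : V) :
    mixv f ℓ a Finset.univ = f (fun _ => ℓ) := by
  unfold mixv; rw [Finset.piecewise_univ]

theorem mixv_empty {r : ℕ} (f : MultilinearMap ℤ (fun _ : Fin r => V) ℤ) (ℓ a : V) :
    mixv f ℓ a ∅ = f (fun _ => a) := by
  unfold mixv; rw [Finset.piecewise_empty]

theorem map_combo {r : ℕ} (f : MultilinearMap ℤ (fun _ : Fin r => V) ℤ) (ℓ a : V) (p q : ℕ) :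
    f (fun _ => p • ℓ + q • a) =
      ∑ s : Finset (Fin r), (p : ℤ) ^ s.card * (q : ℤ) ^ (r - s.card) * mixv f ℓ a s := by
  have h := f.map_add_univ (fun _ => p • ℓ) (fun _ => q • a)
  have e : ((fun _ => p • ℓ) + (fun _ => q • a) : Fin r → V) = fun _ => p • ℓ + q • a := rfl
  rw [e] at h
  rw [h]
  refine Finset.sum_congr rfl fun s _ => ?_
  have h2 := f.map_smul_univ (s.piecewise (fun _ => (p : ℤ)) (fun _ => (q : ℤ)))
    (s.piecewise (fun _ => ℓ) (fun _ => a))
  have h3 : (fun i => (s.piecewise (fun _ => (p : ℤ)) (fun _ => (q : ℤ))) i •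
      (s.piecewise (fun _ => ℓ) (fun _ => a) : Fin r → V) i) =
      (s.piecewise (fun _ => p • ℓ) (fun _ => q • a) : Fin r → V) := by
    funext i
    by_cases hi : i ∈ s
    · simp [Finset.piecewise, hi]
    · simp [Finset.piecewise, hi]
  rw [h3] at h2
  rw [h2, smul_eq_mul]
  unfold mixv
  congr 1
  rw [Finset.prod_piecewise]
  simp [Finset.card_sdiff, Finset.card_univ]

/-- The polynomial `t ↦ f(ℓ + t a, …, ℓ + t a)`. -/
noncomputable def pol {r : ℕ} (f : MultilinearMap ℤ (fun _ : Fin r => V) ℤ) (ℓ a : V) (t : ℝ) : ℝ :=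
  ∑ s : Finset (Fin r), t ^ (r - s.card) * (mixv f ℓ a s : ℝ)

theorem continuous_pol {r : ℕ} (f : MultilinearMap ℤ (fun _ : Fin r => V) ℤ) (ℓ a : V) :
    Continuous (pol f ℓ a) := by
  unfold pol; fun_prop

theorem map_combo_pol {r : ℕ} (f : MultilinearMap ℤ (fun _ : Fin r => V) ℤ) (ℓ a : V) (p q : ℕ) (hp : 0 < p) :
    (f (fun _ => p • ℓ + q • a) : ℝ) = (p : ℝ) ^ r * pol f ℓ a ((q : ℝ) / p) := by
  rw [map_combo]
  unfold pol
  push_cast
  rw [Finset.mul_sum]
  refine Finset.sum_congr rfl fun s _ => ?_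
  have hc : s.card ≤ r := by simpa using Finset.card_le_univ s
  have hp' : (p : ℝ) ≠ 0 := by positivity
  have : (p : ℝ) ^ r = (p : ℝ) ^ s.card * (p : ℝ) ^ (r - s.card) := by
    rw [← pow_add, Nat.add_sub_cancel' hc]
  rw [this, div_pow]
  field_simp

theorem pol_zero {r : ℕ} (f : MultilinearMap ℤ (fun _ : Fin r => V) ℤ) (ℓ a : V) :
    pol f ℓ a 0 = (f (fun _ => ℓ) : ℝ) := by
  unfold pol
  rw [Finset.sum_eq_single Finset.univ]
  · rw [mixv_univ]; simp
  · intro s _ hs
    have : s.card < r := by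
      have := Finset.card_lt_card (Finset.ssubset_univ_iff.mpr hs)
      simpa using this
    rw [zero_pow (by omega), zero_mul]
  · intro h; exact absurd (Finset.mem_univ _) h

theorem pol_lower {r : ℕ} (f : MultilinearMap ℤ (fun _ : Fin (r + 1) => V) ℤ) (ℓ a : V)
    (hN : ∀ s : Finset (Fin (r + 1)), s ≠ Finset.univ → 0 ≤ mixv f ℓ a s) (t : ℝ) (ht : 0 ≤ t) :
    t ^ (r + 1) * (f (fun _ => a) : ℝ) + (f (fun _ => ℓ) : ℝ) ≤ pol f ℓ a t := by
  unfold pol
  have hne : (∅ : Finset (Fin (r + 1))) ≠ Finset.univ := by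
    intro h
    have : (0 : Fin (r + 1)) ∈ (∅ : Finset (Fin (r + 1))) := by rw [h]; exact Finset.mem_univ _
    simp at this
  have hsub : ({∅, Finset.univ} : Finset (Finset (Fin (r + 1)))) ⊆ Finset.univ := Finset.subset_univ _
  rw [← Finset.sum_sdiff hsub, Finset.sum_pair hne]
  have h0 : 0 ≤ ∑ s ∈ Finset.univ \ ({∅, Finset.univ} : Finset (Finset (Fin (r + 1)))),
      t ^ (r + 1 - s.card) * (mixv f ℓ a s : ℝ) := by
    refine Finset.sum_nonneg fun s hs => ?_
    rw [Finset.mem_sdiff, Finset.mem_insert, Finset.mem_singleton, not_or] at hs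
    exact mul_nonneg (pow_nonneg ht _) (by exact_mod_cast hN s hs.2.2)
  rw [mixv_univ, mixv_empty]
  simp only [Finset.card_empty, Nat.sub_zero, Finset.card_univ, Fintype.card_fin, Nat.sub_self, pow_zero, one_mul]
  linarith

/-- Two continuous functions agreeing at the positive rationals agree on `(0, ∞)`. -/
theorem eq_of_rat {g h : ℝ → ℝ} (hg : Continuous g) (hh : Continuous h)
    (H : ∀ p q : ℕ, 0 < p → 0 < q → g ((q : ℝ) / p) = h ((q : ℝ) / p)) (t : ℝ) (ht : 0 < t) : g t = h t := by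
  obtain ⟨u, -, hu, hlim⟩ := exists_seq_strictAnti_tendsto t
  have : ∀ n, ∃ x : ℚ, t < x ∧ (x : ℝ) < u n := fun n => exists_rat_btwn (hu n)
  choose x hx1 hx2 using this
  have hxlim : Tendsto (fun n => (x n : ℝ)) atTop (𝓝 t) :=
    tendsto_of_tendsto_of_tendsto_of_le_of_le tendsto_const_nhds hlim (fun n => (hx1 n).le) (fun n => (hx2 n).le)
  have hgh : ∀ n, g (x n) = h (x n) := by
    intro n
    have hpos : 0 < x n := by exact_mod_cast ht.trans (hx1 n)
    have hnum : 0 < (x n).num := Rat.num_pos.mpr hpos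
    have e : ((x n : ℚ) : ℝ) = (((x n).num.toNat : ℕ) : ℝ) / (((x n).den : ℕ) : ℝ) := by
      have h1 : ((x n).num : ℝ) = (((x n).num.toNat : ℕ) : ℝ) := by
        rw [← Int.cast_natCast, Int.toNat_of_nonneg hnum.le]
      rw [← h1]
      exact_mod_cast (Rat.num_div_den (x n)).symm
    rw [e]
    exact H _ _ (x n).den_pos (by omega)
  exact tendsto_nhds_unique ((hg.tendsto t).comp hxlim)
    (by simpa [Function.comp_def, hgh] using (hh.tendsto t).comp hxlim)

/-- Non-negativity at rationals `> t₀` passes to `t₀`. -/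
theorem nonneg_of_rat {g : ℝ → ℝ} (hg : Continuous g) (t : ℝ) (ht : 0 ≤ t)
    (H : ∀ p q : ℕ, 0 < p → 0 < q → t < (q : ℝ) / p → 0 ≤ g ((q : ℝ) / p)) : 0 ≤ g t := by
  obtain ⟨u, -, hu, hlim⟩ := exists_seq_strictAnti_tendsto t
  have : ∀ n, ∃ x : ℚ, t < x ∧ (x : ℝ) < u n := fun n => exists_rat_btwn (hu n)
  choose x hx1 hx2 using this
  have hxlim : Tendsto (fun n => (x n : ℝ)) atTop (𝓝 t) :=
    tendsto_of_tendsto_of_tendsto_of_le_of_le tendsto_const_nhds hlim (fun n => (hx1 n).le) (fun n => (hx2 n).le)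
  have hgh : ∀ n, 0 ≤ g (x n) := by
    intro n
    have hpos : 0 < x n := by exact_mod_cast lt_of_le_of_lt ht (hx1 n)
    have hnum : 0 < (x n).num := Rat.num_pos.mpr hpos
    have e : ((x n : ℚ) : ℝ) = (((x n).num.toNat : ℕ) : ℝ) / (((x n).den : ℕ) : ℝ) := by
      have h1 : ((x n).num : ℝ) = (((x n).num.toNat : ℕ) : ℝ) := by
        rw [← Int.cast_natCast, Int.toNat_of_nonneg hnum.le]
      rw [← h1]
      exact_mod_cast (Rat.num_div_den (x n)).symm
    have h2 := hx1 n
    rw [e] at h2 ⊢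
    exact H _ _ (x n).den_pos (by omega) h2
  exact ge_of_tendsto' ((hg.tendsto t).comp hxlim) hgh

/-- The form with the first entry fixed. -/
noncomputable abbrev fix {r : ℕ} (f : MultilinearMap ℤ (fun _ : Fin (r + 1) => V) ℤ) (x : V) :
    MultilinearMap ℤ (fun _ : Fin r => V) ℤ := f.curryLeft x

theorem fix_const {r : ℕ} (f : MultilinearMap ℤ (fun _ : Fin (r + 1) => V) ℤ) (x y : V) :
    fix f x (fun _ => y) = f (Fin.cons x (fun _ => y)) := rfl

omit [AddCommGroup V] in
theorem cons_const {r : ℕ} (y : V) : (Fin.cons y (fun _ => y) : Fin (r + 1) → V) = fun _ => y := by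
  funext i
  cases i using Fin.cases with
  | zero => rfl
  | succ i => rfl

theorem pol_split {r : ℕ} (f : MultilinearMap ℤ (fun _ : Fin (r + 1) => V) ℤ) (ℓ a : V) (t : ℝ) (ht : 0 < t) :
    pol f ℓ a t = pol (fix f ℓ) ℓ a t + t * pol (fix f a) ℓ a t := by
  refine eq_of_rat (continuous_pol f ℓ a) ((continuous_pol _ ℓ a).add (continuous_id.mul (continuous_pol _ ℓ a))) ?_ t ht
  intro p q hp hq
  have hp' : (p : ℝ) ≠ 0 := by positivity
  have h1 := map_combo_pol f ℓ a p q hp
  have h2 := map_combo_pol (fix f ℓ) ℓ a p q hp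
  have h3 := map_combo_pol (fix f a) ℓ a p q hp
  have h4 : f (fun _ => p • ℓ + q • a) = p * fix f ℓ (fun _ => p • ℓ + q • a) + q * fix f a (fun _ => p • ℓ + q • a) := by
    have e : f (fun _ => p • ℓ + q • a) = f.curryLeft (p • ℓ + q • a) (fun _ => p • ℓ + q • a) := by
      rw [MultilinearMap.curryLeft_apply, cons_const]
    rw [e, map_add, map_nsmul, map_nsmul]
    simp
  have h5 : (f (fun _ => p • ℓ + q • a) : ℝ) = p * (fix f ℓ (fun _ => p • ℓ + q • a) : ℝ) +
      q * (fix f a (fun _ => p • ℓ + q • a) : ℝ) := by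
    rw [h4]; push_cast; ring
  rw [h1, h2, h3] at h5
  have hpr : (p : ℝ) ^ r ≠ 0 := pow_ne_zero _ hp'
  have hp2 : (p : ℝ) ^ (r + 1) ≠ 0 := pow_ne_zero _ hp'
  refine mul_left_cancel₀ hp2 ?_
  rw [h5]
  change _ = (p : ℝ) ^ (r + 1) * (pol (fix f ℓ) ℓ a ((q : ℝ) / p) + ((q : ℝ) / p) * pol (fix f a) ℓ a ((q : ℝ) / p))
  field_simp
  ring

theorem mixv_fix {r : ℕ} (f : MultilinearMap ℤ (fun _ : Fin (r + 1) => V) ℤ) (ℓ a : V) (s : Finset (Fin r)) :
    mixv (fix f a) ℓ a s = mixv f ℓ a (s.map (Fin.succEmb r)) := by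
  unfold mixv
  rw [MultilinearMap.curryLeft_apply]
  congr 1
  funext i
  cases i using Fin.cases with
  | zero =>
    rw [Fin.cons_zero, Finset.piecewise_eq_of_notMem]
    simp
  | succ i =>
    rw [Fin.cons_succ]
    by_cases hi : i ∈ s
    · rw [Finset.piecewise_eq_of_mem _ _ _ hi, Finset.piecewise_eq_of_mem]
      simpa using hi
    · rw [Finset.piecewise_eq_of_notMem _ _ _ hi, Finset.piecewise_eq_of_notMem]
      simpa using hi

/-- **Root argument.** -/
theorem main {r : ℕ} (f : MultilinearMap ℤ (fun _ : Fin (r + 1) => V) ℤ) (ℓ a : V)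
    (hN : ∀ s : Finset (Fin (r + 1)), s ≠ Finset.univ → 0 ≤ mixv f ℓ a s)
    (ha : 0 < f (fun _ => a))
    (hstep : ∀ p q : ℕ, 0 < p → 0 < q → 0 < f (fun _ => p • ℓ + q • a) →
      0 ≤ f (Fin.cons ℓ (fun _ => p • ℓ + q • a))) :
    (∀ p q : ℕ, 0 < q → 0 < f (fun _ => p • ℓ + q • a)) ∧ 0 ≤ f (fun _ => ℓ) := by
  have haR : (0 : ℝ) < (f (fun _ => a) : ℝ) := by exact_mod_cast ha
  -- R(t) > 0 for t > 0
  have hR : ∀ t : ℝ, 0 < t → 0 < pol (fix f a) ℓ a t := by
    intro t ht
    unfold pol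
    refine Finset.sum_pos' (fun s _ => ?_) ⟨∅, Finset.mem_univ _, ?_⟩
    · refine mul_nonneg (pow_nonneg ht.le _) ?_
      rw [mixv_fix]
      refine Int.cast_nonneg (hN _ fun h => ?_)
      have : (0 : Fin (r + 1)) ∈ s.map (Fin.succEmb r) := by rw [h]; exact Finset.mem_univ _
      simp at this
    · rw [mixv_empty, fix_const, cons_const]
      exact mul_pos (pow_pos ht _) haR
  have hpos : ∀ t : ℝ, 0 < t → 0 < pol f ℓ a t := by
    by_contra hcon
    push Not at hcon
    obtain ⟨t₁, ht₁, ht₁'⟩ := hcon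
    let S : Set ℝ := {t | 0 < t ∧ pol f ℓ a t ≤ 0}
    have hSne : S.Nonempty := ⟨t₁, ht₁, ht₁'⟩
    have hSb : BddAbove S := by
      refine ⟨max 1 (-(f (fun _ => ℓ) : ℝ) / (f (fun _ => a) : ℝ)), ?_⟩
      rintro t ⟨ht0, ht⟩
      by_contra hlt
      push Not at hlt
      rw [max_lt_iff] at hlt
      have h1 := pol_lower f ℓ a hN t ht0.le
      have h2 : t ≤ t ^ (r + 1) := le_self_pow₀ hlt.1.le (by omega)
      have h3 : -(f (fun _ => ℓ) : ℝ) < t * (f (fun _ => a) : ℝ) := by
        rw [div_lt_iff₀ haR] at hlt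
        exact hlt.2
      have h4 : t * (f (fun _ => a) : ℝ) ≤ t ^ (r + 1) * (f (fun _ => a) : ℝ) :=
        mul_le_mul_of_nonneg_right h2 haR.le
      linarith
    let t₀ := sSup S
    have ht₀ : 0 < t₀ := lt_of_lt_of_le ht₁ (le_csSup hSb ⟨ht₁, ht₁'⟩)
    have hmem : pol f ℓ a t₀ ≤ 0 := by
      have hcl : t₀ ∈ closure S := csSup_mem_closure hSne hSb
      have hsub : closure S ⊆ {t | pol f ℓ a t ≤ 0} :=
        closure_minimal (fun t ht => ht.2) (isClosed_le (continuous_pol f ℓ a) continuous_const)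
      exact hsub hcl
    have habove : ∀ t, t₀ < t → 0 < pol f ℓ a t := by
      intro t ht
      by_contra hle
      push Not at hle
      exact absurd (le_csSup hSb (show t ∈ S from ⟨ht₀.trans ht, hle⟩)) (not_le.mpr ht)
    have hQ : 0 ≤ pol (fix f ℓ) ℓ a t₀ := by
      refine nonneg_of_rat (continuous_pol _ ℓ a) t₀ ht₀.le fun p q hp hq hlt => ?_
      have h1 := habove _ hlt
      have h2 := map_combo_pol f ℓ a p q hp
      have h3 : 0 < f (fun _ => p • ℓ + q • a) := by
        have : (0 : ℝ) < (f (fun _ => p • ℓ + q • a) : ℝ) := by rw [h2]; positivity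
        exact_mod_cast this
      have h4 := hstep p q hp hq h3
      have h5 := map_combo_pol (fix f ℓ) ℓ a p q hp
      rw [fix_const] at h5
      have h6 : (0 : ℝ) ≤ (f (Fin.cons ℓ (fun _ => p • ℓ + q • a)) : ℝ) := by exact_mod_cast h4
      rw [h5] at h6
      exact nonneg_of_mul_nonneg_right h6 (by positivity)
    have := pol_split f ℓ a t₀ ht₀
    have h7 := mul_pos ht₀ (hR t₀ ht₀)
    linarith
  refine ⟨fun p q hq => ?_, ?_⟩
  · rcases Nat.eq_zero_or_pos p with rfl | hp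
    · have : f (fun _ => 0 • ℓ + q • a) = (q : ℤ) ^ (r + 1) * f (fun _ => a) := by
        have h := f.map_smul_univ (fun _ => (q : ℤ)) (fun _ => a)
        simp only [zero_smul, zero_add]
        simp only [Finset.prod_const, Finset.card_univ, Fintype.card_fin, smul_eq_mul] at h
        rw [← h]
        congr 1
        funext i
        simp
      rw [this]
      exact mul_pos (by positivity) ha
    · have h2 := map_combo_pol f ℓ a p q hp
      have h3 := hpos ((q : ℝ) / p) (by positivity)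
      have : (0 : ℝ) < (f (fun _ => p • ℓ + q • a) : ℝ) := by rw [h2]; positivity
      exact_mod_cast this
  · have h := nonneg_of_rat (continuous_pol f ℓ a) 0 le_rfl fun p q hp hq _ => (hpos _ (by positivity)).le
    rw [pol_zero] at h
    exact_mod_cast h

end K909.RootArg
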