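import Groth.Prelude.Def_Pic13
import Groth.Agent.Vanish.K909.RootArg
import Groth.Agent.Vanish.K909.InterML
import Groth.Agent.Vanish.K909.DevNonneg
import Groth.Agent.CurvesC.UnitCoh
import Groth.Agent.Pic13.H970.Assembly
import Groth.Agent.Pic13.H972.Glue
import Groth.Agent.S1641

/-!
# Kleiman's theorem on nef classes and ampleness of nef ⊗ ample

Relative to the Nakai–Moishezon criterion (`Nak k`), `X` proper over a field `k`:
* `nonneg_mixed`: mixed intersection numbers of a nef class `ℓ` and an ample class `a` are `≥ 0`;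
* `pos_combo`: `((pℓ + qa)^r · Z) > 0` for `Z ⊆ X` integral of dimension `r`, `q > 0`;
* `isAmple_combo`: `L^p ⊗ A^q` is ample for `q > 0`.
-/

set_option autoImplicit false
universe u
open CategoryTheory CategoryTheory.Limits AlgebraicGeometry

namespace K909.Kleiman

open Groth.Agent Groth.Agent.Fga.PicMon Groth.Agent.Grpsch.PicGrp K909.InterML K909.RootArg

/-- The structure sheaf of a closed subscheme, as a module on the ambient scheme. -/
noncomputable abbrev OZ {X Z : Scheme.{u}} (i : Z ⟶ X) : X.Modules := (Coh.push i).obj (Coh.structureModule Z)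

/-- Nefness of an invertible module: non-negative degree on all integral closed curves. -/
def Nef (k : Type u) [Field k] (X : Scheme.{u}) [X.Over (Spec (CommRingCat.of k))] (L : X.Modules) : Prop :=
  ∀ (Y : Scheme.{u}) (i : Y ⟶ X) [IsClosedImmersion i], IsIntegral Y → topologicalKrullDim Y = 1 →
    0 ≤ Pic13.curveDeg k (i ≫ (X ↘ Spec (CommRingCat.of k))) ((Scheme.Modules.pullback i).obj L)

/-- The Nakai–Moishezon criterion over `k` for schemes of dimension `≤ d`, in terms of `inter`. -/
def Nak (k : Type u) [Field k] : Prop :=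
  ∀ (Z : Scheme.{u}) [Z.Over (Spec (CommRingCat.of k))] [IsProper (Z ↘ Spec (CommRingCat.of k))] (d : ℕ),
    topologicalKrullDim Z ≤ d → ∀ (L : Z.Modules) (hL : PicF.IsInvertible L),
    (∀ (V : Scheme.{u}) (i : V ⟶ Z) [IsClosedImmersion i] [IsIntegral V] (s : ℕ), 0 < s →
      topologicalKrullDim V = s → 0 < inter k Z d (OZ i) (fun _ : Fin s => mk L hL)) → CohB1.IsAmple L

section basics

variable {X Z : Scheme.{u}} (i : Z ⟶ X) [IsClosedImmersion i]

theorem isCoh_OZ [IsLocallyNoetherian X] : Coh.IsCoh (OZ i) := CycB.ClosSheaf.isCoh_push_structureModule i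

theorem support_OZ : CohB1.support (OZ i) = Set.range i := by
  rw [CohqB.DevSimple.support_push, Pic13.H970.Assembly.support_unit, Set.image_univ]

theorem dim_OZ : topologicalKrullDim (CohB1.support (OZ i)) = topologicalKrullDim Z := by
  rw [support_OZ]
  exact (IsHomeomorph.topologicalKrullDim_eq _ i.isClosedEmbedding.isEmbedding.toHomeomorph.isHomeomorph).symm

end basics

section push

variable (k : Type u) [Field k] {X Z : Scheme.{u}} [X.Over (Spec (CommRingCat.of k))]
  [Z.Over (Spec (CommRingCat.of k))] (i : Z ⟶ X) [IsClosedImmersion i]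

/-- Projection formula for a closed immersion. -/
theorem inter_push (hi : i ≫ (X ↘ Spec (CommRingCat.of k)) = Z ↘ Spec (CommRingCat.of k)) (d : ℕ) {r : ℕ}
    (c : Fin r → Pic X) (G : Z.Modules) :
    inter k X d ((Coh.push i).obj G) c = inter k Z d G (fun j => pull i (c j)) := by
  obtain ⟨M, hM, h⟩ := Pic13.H970.IntForm.exists_rep X (fun i => (c i)⁻¹)
  unfold inter
  rw [h, ← Pic13.H970.IntForm.intNum_eq k X d _ M hM, Fga.MultInt.intNum_push k i hi d M hM G,
    Pic13.H970.IntForm.intNum_eq k Z d _ _ (fun j => Fdesc.LocGen.isInvertible_pullback i (hM j))]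
  congr 1
  funext j
  rw [← pull_mk i (hM j), ← map_inv]
  exact congrArg (pull i) (congrFun h j).symm

end push

section swap

variable (k : Type u) [Field k] (X : Scheme.{u}) [X.Over (Spec (CommRingCat.of k))] (d : ℕ) (F : X.Modules)

theorem inter_swap01 {r : ℕ} (a b : Pic X) (c : Fin r → Pic X) :
    inter k X d F (Fin.cons a (Fin.cons b c : Fin (r + 1) → Pic X) : Fin (r + 2) → Pic X) =
      inter k X d F (Fin.cons b (Fin.cons a c : Fin (r + 1) → Pic X) : Fin (r + 2) → Pic X) := by
  rw [inter_cons, inter_cons, inv_cons, inv_cons]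
  exact Pic13.H970.IntForm.swap01 k X d F _ _ _

end swap

section curve

variable (k : Type u) [Field k] (X : Scheme.{u}) [X.Over (Spec (CommRingCat.of k))]
  [IsProper (X ↘ Spec (CommRingCat.of k))] (d : ℕ) (hd : topologicalKrullDim X ≤ d)

theorem dim_le_of_closed {X Z : Scheme.{u}} (i : Z ⟶ X) [IsClosedImmersion i] :
    topologicalKrullDim Z ≤ topologicalKrullDim X :=
  i.isClosedEmbedding.isInducing.topologicalKrullDim_le

include hd in
/-- The one-fold number on `O_X` of a scheme of dimension `≤ 1`. -/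
theorem inter_one (L : X.Modules) (hL : PicF.IsInvertible L) (h1 : topologicalKrullDim X ≤ (1 : ℕ)) :
    inter k X d (Coh.structureModule X) (fun _ : Fin 1 => mk L hL) =
      FGA.eulerCharLE k X L d - FGA.eulerCharLE k X (Coh.structureModule X) d := by
  have := Fga.IntAdd.isNoetherian k X
  have hcoh : Coh.IsCoh (Coh.structureModule X) := CurvesC.UnitCoh.isCoh_unit X
  have hs : topologicalKrullDim (CohB1.support (Coh.structureModule X)) ≤ ((0 + 1 : ℕ) : WithBot ℕ∞) := by
    rw [Pic13.H970.Assembly.support_unit]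
    refine le_trans ?_ h1
    exact (Topology.IsInducing.subtypeVal).topologicalKrullDim_le
  have e : (fun _ : Fin 1 => mk L hL) = (Fin.cons (mk L hL) (fun i : Fin 0 => i.elim0) : Fin 1 → Pic X) := by
    funext i
    cases i using Fin.cases with
    | zero => rfl
    | succ i => exact i.elim0
  rw [e, inter_cons, Pic13.H970.IntForm.I_cons_inv k X d hd _ hcoh _ _ hs, Pic13.H970.IntForm.I_cons_mk]
  have h0 : ∀ (G : X.Modules) (c : Fin 0 → Pic X), Pic13.H970.IntForm.I k X d G c = FGA.eulerCharLE k X G d := by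
    intro G c
    unfold Pic13.H970.IntForm.I
    rw [Fga.AltSum.dSum_zero, chiCl_one]
  rw [h0, h0, euler_iso k X (Ega2.Tens.runit L) d]
  ring

include hd in
/-- A nef class is non-negative on integral closed curves. -/
theorem nef_curve (L : X.Modules) (hL : PicF.IsInvertible L) (hnef : Nef k X L)
    (Z : Scheme.{u}) (i : Z ⟶ X) [IsClosedImmersion i] [IsIntegral Z] (hZ : topologicalKrullDim Z = (1 : ℕ)) :
    0 ≤ inter k X d (OZ i) (fun _ : Fin 1 => mk L hL) := by
  letI : Z.Over (Spec (CommRingCat.of k)) := ⟨i ≫ (X ↘ Spec (CommRingCat.of k))⟩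
  have hi : i ≫ (X ↘ Spec (CommRingCat.of k)) = Z ↘ Spec (CommRingCat.of k) := rfl
  haveI : IsProper (Z ↘ Spec (CommRingCat.of k)) := by rw [← hi]; infer_instance
  have hdZ : topologicalKrullDim Z ≤ d := (dim_le_of_closed i).trans hd
  rw [OZ, inter_push k i hi]
  simp only [pull_mk]
  rw [inter_one k Z d hdZ _ _ (by rw [hZ])]
  have h := hnef Z i inferInstance hZ
  unfold Pic13.curveDeg at h
  rw [Pic13.H972.Glue.euler_eq_euler k Z d 1 hdZ (by rw [hZ]),
    Pic13.H972.Glue.euler_eq_euler k Z d 1 hdZ (by rw [hZ])]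
  exact h

/-- Nefness restricts to closed subschemes. -/
theorem Nef.pullback {L : X.Modules} (hnef : Nef k X L) {Z : Scheme.{u}} (i : Z ⟶ X) [IsClosedImmersion i]
    [Z.Over (Spec (CommRingCat.of k))] (hi : i ≫ (X ↘ Spec (CommRingCat.of k)) = Z ↘ Spec (CommRingCat.of k)) :
    Nef k Z ((Scheme.Modules.pullback i).obj L) := by
  intro Y j _ hY hdim
  have h := hnef Y (j ≫ i) hY hdim
  unfold Pic13.curveDeg at h ⊢
  have e : (Scheme.Modules.pullback (j ≫ i)).obj L ≅
      (Scheme.Modules.pullback j).obj ((Scheme.Modules.pullback i).obj L) :=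
    ((Scheme.Modules.pullbackComp j i).app L).symm
  have hcomp : (j ≫ i) ≫ (X ↘ Spec (CommRingCat.of k)) = j ≫ (Z ↘ Spec (CommRingCat.of k)) := by
    rw [Category.assoc, hi]
  rw [hcomp] at h
  letI : Y.Over (Spec (CommRingCat.of k)) := ⟨j ≫ (Z ↘ Spec (CommRingCat.of k))⟩
  rw [euler_iso k Y e 1] at h
  exact h

include hd in
/-- `(ℓ · m^s · F) ≥ 0` for `ℓ` nef, `m` ample, `dim Supp F ≤ s + 1`. -/
theorem nonneg_one (L : X.Modules) (hL : PicF.IsInvertible L) (hnef : Nef k X L) (M : X.Modules)
    (hM : CohB1.IsAmple M) (s : ℕ) (F : X.Modules) (hF : Coh.IsCoh F)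
    (hs : topologicalKrullDim (CohB1.support F) ≤ (s + 1 : ℕ)) :
    0 ≤ inter k X d F (Fin.cons (mk L hL) (fun _ : Fin s => mk M hM.1) : Fin (s + 1) → Pic X) := by
  have := Fga.IntAdd.isNoetherian k X
  induction s generalizing F with
  | zero =>
    have e : (Fin.cons (mk L hL) (fun _ : Fin 0 => mk M hM.1) : Fin 1 → Pic X) = fun _ => mk L hL := by
      funext i
      cases i using Fin.cases with
      | zero => rfl
      | succ i => exact i.elim0
    rw [e]
    refine DevNonneg.nonneg_of_integral (fun G => inter k X d G (fun _ : Fin 1 => mk L hL))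
      (isAdd_inter k X d hd _) 1 (fun G hG hdim => inter_eq_zero k X d hd G hG _ hdim) ?_ F hF hs
    intro Z i _ _ hZ
    exact nef_curve k X d hd L hL hnef Z i hZ
  | succ s ih =>
    rcases lt_or_eq_of_le hs with hlt | heq
    · rw [inter_eq_zero k X d hd F hF _ hlt]
    · have e : (Fin.cons (mk L hL) (fun _ : Fin (s + 1) => mk M hM.1) : Fin (s + 2) → Pic X) =
          Fin.cons (mk L hL) (Fin.cons (mk M hM.1) (fun _ : Fin s => mk M hM.1) : Fin (s + 1) → Pic X) := by
        rw [cons_const]
      rw [e, inter_swap01]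
      obtain ⟨n, G, hG, hGd, hcut⟩ := exists_cut k X d hd F hF M hM heq
      have h1 := hcut (Fin.cons (mk L hL) (fun _ : Fin s => mk M hM.1) : Fin (s + 1) → Pic X)
      have h2 := ih G hG (le_of_eq hGd)
      rw [← h1] at h2
      exact nonneg_of_mul_nonneg_right h2 (by positivity)

end curve

section main

variable (k : Type u) [Field k] (nak : Nak.{u} k) (X : Scheme.{u}) [X.Over (Spec (CommRingCat.of k))]
  [IsProper (X ↘ Spec (CommRingCat.of k))] (d : ℕ) (hd : topologicalKrullDim X ≤ d)
  (L : X.Modules) (hL : PicF.IsInvertible L) (hnef : Nef k X L) (A : X.Modules) (hA : CohB1.IsAmple A)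

include hd in
/-- If one entry is ample, cut. -/
theorem nonneg_of_entry (r : ℕ) (a : Pic X) (ha : a = mk A hA.1) (P : Pic X → Prop)
    (ih : ∀ G : X.Modules, Coh.IsCoh G → topologicalKrullDim (CohB1.support G) ≤ r →
      ∀ c : Fin r → Pic X, (∀ j, P (c j)) → 0 ≤ inter k X d G c)
    (F : X.Modules) (hF : Coh.IsCoh F) (hs : topologicalKrullDim (CohB1.support F) ≤ (r + 1 : ℕ))
    (c : Fin (r + 1) → Pic X) (hc : ∀ j, P (c j)) (j : Fin (r + 1)) (hj : c j = a) : 0 ≤ inter k X d F c := by
  rcases lt_or_eq_of_le hs with hlt | heq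
  · rw [inter_eq_zero k X d hd F hF _ hlt]
  · obtain ⟨c', hc', h⟩ := exists_front' k X d F c j
    obtain ⟨n, G, hG, hGd, hcut⟩ := exists_cut k X d hd F hF A hA heq
    rw [h, hj, ha]
    have h1 := hcut c'
    have h2 := ih G hG (le_of_eq hGd) c' (fun t => by
      obtain ⟨t', -, ht'⟩ := hc' t
      rw [ht']
      exact hc t')
    rw [← h1] at h2
    exact nonneg_of_mul_nonneg_right h2 (by positivity)

/-- The module `L^p ⊗ A^q`. -/
noncomputable abbrev combo (L A : X.Modules) (p q : ℕ) : X.Modules :=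
  CohB1.tensorMod (CohB1.tensorPow L p) (CohB1.tensorPow A q)

theorem isInvertible_combo {L A : X.Modules} (hL : PicF.IsInvertible L) (hA : PicF.IsInvertible A) (p q : ℕ) :
    PicF.IsInvertible (combo X L A p q) :=
  Fdesc.LocGen.isInvertible_tensorMod (Fdesc.LocGen.isInvertible_tensorPow hL p) (Fdesc.LocGen.isInvertible_tensorPow hA q)

theorem mk_combo {L A : X.Modules} (hL : PicF.IsInvertible L) (hA : PicF.IsInvertible A) (p q : ℕ) :
    mk (combo X L A p q) (isInvertible_combo X hL hA p q) = mk L hL ^ p * mk A hA ^ q := by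
  rw [← mk_tensorPow hL, ← mk_tensorPow hA, mk_mul_mk]

/-- Class of `ℓ^p a^q` in additive notation. -/
theorem toMul_combo (a b : Pic X) (p q : ℕ) :
    (p • Additive.ofMul a + q • Additive.ofMul b).toMul = a ^ p * b ^ q := rfl

/-- Non-negativity of mixed numbers in dimension `≤ r`. -/
def NonNeg (r : ℕ) : Prop :=
  ∀ F : X.Modules, Coh.IsCoh F → topologicalKrullDim (CohB1.support F) ≤ r →
    ∀ c : Fin r → Pic X, (∀ j, c j = mk L hL ∨ c j = mk A hA.1) → 0 ≤ inter k X d F c

/-- Positivity of `(ℓ^p a^q)^s` in dimension `s`. -/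
def Pos (s : ℕ) : Prop :=
  ∀ (Z : Scheme.{u}) (i : Z ⟶ X) [IsClosedImmersion i] [IsIntegral Z], topologicalKrullDim Z = s → ∀ p q : ℕ, 0 < q →
    0 < inter k X d (OZ i) (fun _ : Fin s => mk L hL ^ p * mk A hA.1 ^ q)

include hd in
theorem nonNeg_zero : NonNeg k X d L hL A hA 0 := by
  intro F hF hdim c _
  have := Fga.IntAdd.isNoetherian k X
  rcases lt_or_eq_of_le hdim with hlt | heq
  · rw [inter_eq_zero k X d hd F hF _ hlt]
  · rw [inter_zero]
    exact (Fga.PosZero.euler_pos k X d F hF (by rw [heq]; rfl)).le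

variable {k X d L hL A hA}

include nak hd hnef in
theorem core (r : ℕ) (hN : NonNeg k X d L hL A hA r) (hP : ∀ s, s ≤ r → 0 < s → Pos k X d L hL A hA s)
    (Z : Scheme.{u}) (i : Z ⟶ X) [IsClosedImmersion i] [IsIntegral Z] (hZ : topologicalKrullDim Z = (r + 1 : ℕ)) :
    (∀ p q : ℕ, 0 < q → 0 < inter k X d (OZ i) (fun _ : Fin (r + 1) => mk L hL ^ p * mk A hA.1 ^ q)) ∧
      0 ≤ inter k X d (OZ i) (fun _ : Fin (r + 1) => mk L hL) := by
  classical
  have := Fga.IntAdd.isNoetherian k X
  have hcoh : Coh.IsCoh (OZ i) := isCoh_OZ i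
  have hdim : topologicalKrullDim (CohB1.support (OZ i)) = (r + 1 : ℕ) := by rw [dim_OZ, hZ]
  have key := RootArg.main (ml k X d hd (OZ i) hcoh hdim.le) (Additive.ofMul (mk L hL)) (Additive.ofMul (mk A hA.1))
    ?_ ?_ ?_
  · exact key
  · intro s hs
    obtain ⟨j, hj⟩ : ∃ j, j ∉ s := by
      by_contra h
      push Not at h
      exact hs (Finset.eq_univ_iff_forall.mpr h)
    unfold mixv
    rw [ml_apply]
    refine nonneg_of_entry k X d hd A hA r (mk A hA.1) rfl (fun c => c = mk L hL ∨ c = mk A hA.1) ?_ (OZ i) hcoh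
      hdim.le _ ?_ j ?_
    · exact fun G hG hGd c hc => hN G hG hGd c hc
    · intro t
      by_cases ht : t ∈ s
      · left; rw [Finset.piecewise_eq_of_mem _ _ _ ht]; rfl
      · right; rw [Finset.piecewise_eq_of_notMem _ _ _ ht]; rfl
    · rw [Finset.piecewise_eq_of_notMem _ _ _ hj]; rfl
  · rw [ml_apply]
    exact Pic13.H970.IntForm.I_pos k X d hd (OZ i) hcoh (fun _ => A) (fun _ => hA) (fun _ => hA.1) hdim
  · intro p q hp hq hpos
    rw [ml_apply] at hpos ⊢
    letI : Z.Over (Spec (CommRingCat.of k)) := ⟨i ≫ (X ↘ Spec (CommRingCat.of k))⟩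
    have hi : i ≫ (X ↘ Spec (CommRingCat.of k)) = Z ↘ Spec (CommRingCat.of k) := rfl
    haveI : IsProper (Z ↘ Spec (CommRingCat.of k)) := by rw [← hi]; infer_instance
    have hdZ : topologicalKrullDim Z ≤ d := (dim_le_of_closed i).trans hd
    have hLZ : PicF.IsInvertible ((Scheme.Modules.pullback i).obj L) := Fdesc.LocGen.isInvertible_pullback i hL
    have hAZ : PicF.IsInvertible ((Scheme.Modules.pullback i).obj A) := Fdesc.LocGen.isInvertible_pullback i hA.1
    have hm : mk _ (isInvertible_combo Z hLZ hAZ p q) = pull i (mk L hL ^ p * mk A hA.1 ^ q) := by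
      rw [mk_combo, map_mul, map_pow, map_pow, pull_mk, pull_mk]
    have hM : CohB1.IsAmple (combo Z ((Scheme.Modules.pullback i).obj L) ((Scheme.Modules.pullback i).obj A) p q) := by
      refine nak Z d hdZ _ (isInvertible_combo Z hLZ hAZ p q) ?_
      intro V j _ _ s hs hV
      have h1 : inter k Z d (OZ j) (fun _ : Fin s => mk _ (isInvertible_combo Z hLZ hAZ p q)) =
          inter k X d (OZ (j ≫ i)) (fun _ : Fin s => mk L hL ^ p * mk A hA.1 ^ q) := by
        rw [hm, ← inter_push k i hi d (fun _ => mk L hL ^ p * mk A hA.1 ^ q) (OZ j)]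
        exact inter_iso k X d _ (Iso.refl _) _
      rw [h1]
      rcases lt_or_eq_of_le (show s ≤ r + 1 by
        have := dim_le_of_closed j
        rw [hV, hZ] at this
        exact_mod_cast this) with hlt | heq
      · exact hP s (by omega) hs V (j ≫ i) hV p q hq
      · subst heq
        -- `j` is an isomorphism
        have hsurj : Surjective j := by
          constructor
          have hirr : IsIrreducible (Set.univ : Set Z) := irreducibleSpace_def _ |>.mp inferInstance
          by_contra hne
          have hrange : Set.range j ≠ Set.univ := fun h => hne (Set.range_eq_univ.mp h)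
          have h3 := Fga.DimLt.topologicalKrullDim_lt hirr j.isClosedEmbedding.isClosed_range (Set.subset_univ _)
            hrange (d := r + 1) (by
              rw [IsHomeomorph.topologicalKrullDim_eq _ (Homeomorph.Set.univ Z).isHomeomorph, hZ]
              exact_mod_cast Nat.lt_succ_self _)
          rw [← IsHomeomorph.topologicalKrullDim_eq _ j.isClosedEmbedding.isEmbedding.toHomeomorph.isHomeomorph, hV] at h3
          exact lt_irrefl _ h3
        have hiso : IsIso j := isIso_of_isClosedImmersion_of_surjective j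
        have h4 : OZ (j ≫ i) ≅ OZ i := by
          have := S1641.isIso_unitToPush j
          exact (Scheme.Modules.pushforwardComp j i).symm.app (Coh.structureModule V) ≪≫
            (Scheme.Modules.pushforward i).mapIso (@asIso _ _ _ _ (ClSub.unitToPush j) this).symm
        rw [inter_iso k X d _ h4]
        exact hpos
    have h2 := nonneg_one k Z d hdZ ((Scheme.Modules.pullback i).obj L) hLZ (Nef.pullback k X hnef i hi) _ hM r
      (Coh.structureModule Z) (CurvesC.UnitCoh.isCoh_unit Z) (by
        rw [Pic13.H970.Assembly.support_unit, IsHomeomorph.topologicalKrullDim_eq _ (Homeomorph.Set.univ Z).isHomeomorph, hZ])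
    rw [show mk _ hM.1 = pull i (mk L hL ^ p * mk A hA.1 ^ q) from hm, ← pull_mk i hL] at h2
    have h3 := inter_push k i hi d
      (Fin.cons (mk L hL) (fun _ : Fin r => mk L hL ^ p * mk A hA.1 ^ q) : Fin (r + 1) → Pic X) (Coh.structureModule Z)
    have h4 : (fun j => pull i ((Fin.cons (mk L hL) (fun _ : Fin r => mk L hL ^ p * mk A hA.1 ^ q) :
        Fin (r + 1) → Pic X) j)) =
        (Fin.cons (pull i (mk L hL)) (fun _ : Fin r => pull i (mk L hL ^ p * mk A hA.1 ^ q)) : Fin (r + 1) → Pic Z) := by
      funext j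
      cases j using Fin.cases with
      | zero => rfl
      | succ j => rfl
    rw [h4] at h3
    have h5 : (fun j => ((Fin.cons (Additive.ofMul (mk L hL)) (fun _ => p • Additive.ofMul (mk L hL) +
        q • Additive.ofMul (mk A hA.1)) : Fin (r + 1) → Additive (Pic X)) j).toMul) =
        (Fin.cons (mk L hL) (fun _ : Fin r => mk L hL ^ p * mk A hA.1 ^ q) : Fin (r + 1) → Pic X) := by
      funext j
      cases j using Fin.cases with
      | zero => rfl
      | succ j => rfl
    rw [h5]
    exact h3.symm ▸ h2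

include nak hd hnef in
theorem both (r : ℕ) : NonNeg k X d L hL A hA r ∧ ∀ s, s ≤ r → 0 < s → Pos k X d L hL A hA s := by
  have := Fga.IntAdd.isNoetherian k X
  induction r with
  | zero => exact ⟨nonNeg_zero k X d hd L hL A hA, fun s hs hs' => by omega⟩
  | succ r ih =>
    obtain ⟨hN, hP⟩ := ih
    have hcore := fun (Z : Scheme.{u}) (i : Z ⟶ X) [IsClosedImmersion i] [IsIntegral Z]
      (hZ : topologicalKrullDim Z = (r + 1 : ℕ)) => core nak hd hnef r hN hP Z i hZ
    refine ⟨?_, ?_⟩
    · intro F hF hdim c hc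
      by_cases h : ∃ j, c j = mk A hA.1
      · obtain ⟨j, hj⟩ := h
        exact nonneg_of_entry k X d hd A hA r (mk A hA.1) rfl (fun c => c = mk L hL ∨ c = mk A hA.1)
          (fun G hG hGd c hc => hN G hG hGd c hc) F hF hdim c hc j hj
      · push Not at h
        have hcl : c = fun _ => mk L hL := funext fun j => (hc j).resolve_right (h j)
        rw [hcl]
        refine DevNonneg.nonneg_of_integral (fun G => inter k X d G (fun _ : Fin (r + 1) => mk L hL))
          (isAdd_inter k X d hd _) (r + 1) (fun G hG hdim => inter_eq_zero k X d hd G hG _ hdim) ?_ F hF hdim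
        intro Z i _ _ hZ
        exact (hcore Z i hZ).2
    · intro s hs hs0
      rcases lt_or_eq_of_le hs with hlt | rfl
      · exact hP s (by omega) hs0
      · intro Z i _ _ hZ p q hq
        exact (hcore Z i hZ).1 p q hq

include nak hd hnef in
/-- Mixed numbers of a nef class and an ample class are non-negative. -/
theorem nonneg_mixed (hL : PicF.IsInvertible L) (hA : CohB1.IsAmple A) {r : ℕ} (F : X.Modules) (hF : Coh.IsCoh F) (hr : topologicalKrullDim (CohB1.support F) ≤ r)
    (c : Fin r → Pic X) (hc : ∀ j, c j = mk L hL ∨ c j = mk A hA.1) : 0 ≤ inter k X d F c :=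
  (both (hL := hL) (hA := hA) nak hd hnef r).1 F hF hr c hc

include nak hd hnef in
/-- **Kleiman**: `L^p ⊗ A^q` is ample for `L` nef, `A` ample and `q > 0`. -/
theorem isAmple_combo (hL : PicF.IsInvertible L) (hA : CohB1.IsAmple A) (p q : ℕ) (hq : 0 < q) : CohB1.IsAmple (combo X L A p q) := by
  refine nak X d hd _ (isInvertible_combo X hL hA.1 p q) ?_
  intro V j _ _ s hs hV
  rw [mk_combo]
  exact (both (hL := hL) (hA := hA) nak hd hnef s).2 s le_rfl hs V j hV p q hq

end main

end K909.Kleiman
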