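import Groth.Agent.Vanish.K909.Kleiman
import Groth.Agent.Variety.K420.IntCoeff
import Groth.Prelude.Def_FlatMod2
import Mathlib.AlgebraicGeometry.IdealSheaf.Subscheme

/-!
# `Nak k` from the coefficient form of the Nakai–Moishezon criterion
-/

set_option autoImplicit false
universe u
open CategoryTheory CategoryTheory.Limits AlgebraicGeometry

namespace K909.Kleiman

open Groth.Agent Groth.Agent.Fga.PicMon Groth.Agent.Grpsch.PicGrp K909.InterML Groth.Agent.Pic13.H970.IntForm

/-- The statement of S7749 over `k` (sufficiency). -/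
def NakCoeff (k : Type u) [Field k] : Prop :=
  ∀ (X : Scheme.{u}) [X.Over (Spec (CommRingCat.of k))] [IsProper (X ↘ (Spec (CommRingCat.of k)))]
    (L : X.Modules) (_ : PicF.IsInvertible L),
      (∀ (Z : X.IdealSheafData) [IsIntegral Z.subscheme] (d : ℕ), 0 < d →
        topologicalKrullDim (Z.support : Set X) = d →
        ∀ P : MvPolynomial (Fin d) ℚ,
          (∀ n : Fin d → ℕ, (Curv2.euler k X (Curv2.tensorPows (ClSub.quotMod Z) d (fun _ => L) n) : ℚ) =
            MvPolynomial.eval (fun i => (n i : ℚ)) P) →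
          0 < MvPolynomial.coeff (Finsupp.equivFunOnFinite.symm fun _ : Fin d => 1) P) → CohB1.IsAmple L

theorem nak_of_nakCoeff (k : Type u) [Field k] (h : NakCoeff.{u} k) : Nak.{u} k := by
  intro Z _ _ d hd L hL hpos
  have := Fga.IntAdd.isNoetherian k Z
  refine h Z L hL fun W _ s hs hW P hP => ?_
  have hdim : topologicalKrullDim W.subscheme = s := by
    have h1 := dim_OZ W.subschemeι
    rw [support_OZ, Scheme.IdealSheafData.range_subschemeι] at h1
    rw [← h1]
    exact hW
  have h2 := hpos W.subscheme W.subschemeι s hs hdim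
  have hLM : mk L hL * mk (dual L) (isInvertible_dual hL) = 1 := by rw [← inv_mk hL, mul_inv_cancel]
  have hLM' : mc L * mc (dual L) = 1 := by
    have := congrArg (toMC Z) hLM
    rwa [map_mul, map_one] at this
  have h3 := K420.IntCoeff.coeff_eq_intNum' k d hd (F := ClSub.quotMod W) (isCoh_OZ W.subschemeι)
    (r := s) (by rw [show CohB1.support (ClSub.quotMod W) = CohB1.support (OZ W.subschemeι) from rfl, dim_OZ, hdim])
    (L := fun _ => L) (M := fun _ => dual L) (fun _ => hL) (fun _ => isInvertible_dual hL) (fun _ => hLM') hP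
  rw [h3]
  rw [inter_mk k Z d (OZ W.subschemeι) (fun _ : Fin s => L) (fun _ => dual L) (fun _ => hL)
    (fun _ => isInvertible_dual hL) (fun _ => ⟨@asIso _ _ _ _ (ev L) (isIso_ev hL)⟩)] at h2
  exact_mod_cast h2

end K909.Kleiman
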