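import Groth.Agent.Vanish.K909.NefIff

/-!
# Nefness on the Picard group
-/

set_option autoImplicit false
universe u
open CategoryTheory CategoryTheory.Limits AlgebraicGeometry

namespace K909.Kleiman

open Groth.Agent Groth.Agent.Fga.PicMon Groth.Agent.Grpsch.PicGrp K909.InterML Groth.Agent.Pic13.H970.IntForm

variable (k : Type u) [Field k] (X : Scheme.{u}) [X.Over (Spec (CommRingCat.of k))]

/-- The degree of a class on a scheme `i : Y ⟶ X` over `X`. -/
noncomputable def dOn {Y : Scheme.{u}} (i : Y ⟶ X) (c : Pic X) : ℤ :=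
  letI : Y.Over (Spec (CommRingCat.of k)) := ⟨i ≫ (X ↘ Spec (CommRingCat.of k))⟩
  degc k Y 1 (pull i c)

/-- Nefness of a class. -/
def NefC (c : Pic X) : Prop :=
  ∀ (Y : Scheme.{u}) (i : Y ⟶ X) [IsClosedImmersion i], IsIntegral Y → topologicalKrullDim Y = 1 → 0 ≤ dOn k X i c

variable [IsProper (X ↘ Spec (CommRingCat.of k))]

theorem curveDeg_eq_dOn {Y : Scheme.{u}} (i : Y ⟶ X) [IsClosedImmersion i] (hdim : topologicalKrullDim Y = 1)
    {L : X.Modules} (hL : PicF.IsInvertible L) :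
    Pic13.curveDeg k (i ≫ (X ↘ Spec (CommRingCat.of k))) ((Scheme.Modules.pullback i).obj L) = dOn k X i (mk L hL) := by
  letI : Y.Over (Spec (CommRingCat.of k)) := ⟨i ≫ (X ↘ Spec (CommRingCat.of k))⟩
  have hi : i ≫ (X ↘ Spec (CommRingCat.of k)) = Y ↘ Spec (CommRingCat.of k) := rfl
  haveI : IsProper (Y ↘ Spec (CommRingCat.of k)) := by rw [← hi]; infer_instance
  have hdim' : topologicalKrullDim Y = (1 : ℕ) := by rw [hdim]; rfl
  have hLY := Fdesc.LocGen.isInvertible_pullback i hL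
  rw [hi, curveDeg_eq_degc k Y 1 hdim'.le _ hLY hdim'.le, ← pull_mk i hL]
  rfl

theorem nef_iff_nefC {L : X.Modules} (hL : PicF.IsInvertible L) : Nef k X L ↔ NefC k X (mk L hL) := by
  refine forall_congr' fun Y => forall_congr' fun i => forall_congr' fun _ => forall_congr' fun _ =>
    forall_congr' fun hdim => ?_
  rw [curveDeg_eq_dOn k X i hdim hL]

theorem dOn_mul {Y : Scheme.{u}} (i : Y ⟶ X) [IsClosedImmersion i] (hdim : topologicalKrullDim Y = 1) (a b : Pic X) :
    dOn k X i (a * b) = dOn k X i a + dOn k X i b := by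
  letI : Y.Over (Spec (CommRingCat.of k)) := ⟨i ≫ (X ↘ Spec (CommRingCat.of k))⟩
  have hi : i ≫ (X ↘ Spec (CommRingCat.of k)) = Y ↘ Spec (CommRingCat.of k) := rfl
  haveI : IsProper (Y ↘ Spec (CommRingCat.of k)) := by rw [← hi]; infer_instance
  have hdim' : topologicalKrullDim Y = (1 : ℕ) := by rw [hdim]; rfl
  unfold dOn
  rw [map_mul, degc_mul k Y 1 hdim'.le hdim'.le]

theorem dOn_pow {Y : Scheme.{u}} (i : Y ⟶ X) [IsClosedImmersion i] (hdim : topologicalKrullDim Y = 1) (a : Pic X)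
    (n : ℕ) : dOn k X i (a ^ n) = n * dOn k X i a := by
  letI : Y.Over (Spec (CommRingCat.of k)) := ⟨i ≫ (X ↘ Spec (CommRingCat.of k))⟩
  have hi : i ≫ (X ↘ Spec (CommRingCat.of k)) = Y ↘ Spec (CommRingCat.of k) := rfl
  haveI : IsProper (Y ↘ Spec (CommRingCat.of k)) := by rw [← hi]; infer_instance
  have hdim' : topologicalKrullDim Y = (1 : ℕ) := by rw [hdim]; rfl
  unfold dOn
  rw [map_pow, degc_pow k Y 1 hdim'.le hdim'.le]

theorem NefC.mul {a b : Pic X} (ha : NefC k X a) (hb : NefC k X b) : NefC k X (a * b) := by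
  intro Y i _ hY hdim
  rw [dOn_mul k X i hdim]
  exact add_nonneg (ha Y i hY hdim) (hb Y i hY hdim)

theorem NefC.pow {a : Pic X} (ha : NefC k X a) (n : ℕ) : NefC k X (a ^ n) := by
  intro Y i _ hY hdim
  rw [dOn_pow k X i hdim]
  exact mul_nonneg (Int.natCast_nonneg _) (ha Y i hY hdim)

theorem Nef.tensorPow {L : X.Modules} (hL : PicF.IsInvertible L) (h : Nef k X L) (n : ℕ) :
    Nef k X (CohB1.tensorPow L n) := by
  rw [nef_iff_nefC k X (Fdesc.LocGen.isInvertible_tensorPow hL n), mk_tensorPow hL]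
  exact NefC.pow k X ((nef_iff_nefC k X hL).mp h) n

theorem Nef.tensorMod {L M : X.Modules} (hL : PicF.IsInvertible L) (hM : PicF.IsInvertible M) (h : Nef k X L)
    (h' : Nef k X M) : Nef k X (CohB1.tensorMod L M) := by
  rw [nef_iff_nefC k X (Fdesc.LocGen.isInvertible_tensorMod hL hM), ← mk_mul_mk hL hM]
  exact NefC.mul k X ((nef_iff_nefC k X hL).mp h) ((nef_iff_nefC k X hM).mp h')

/-- Ample modules are nef. -/
theorem nef_of_ample {A : X.Modules} (hA : CohB1.IsAmple A) : Nef k X A := by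
  intro Y i _ hY hdim
  rw [curveDeg_eq_dOn k X i hdim hA.1]
  letI : Y.Over (Spec (CommRingCat.of k)) := ⟨i ≫ (X ↘ Spec (CommRingCat.of k))⟩
  have hi : i ≫ (X ↘ Spec (CommRingCat.of k)) = Y ↘ Spec (CommRingCat.of k) := rfl
  haveI : IsProper (Y ↘ Spec (CommRingCat.of k)) := by rw [← hi]; infer_instance
  have hdim' : topologicalKrullDim Y = (1 : ℕ) := by rw [hdim]; rfl
  have h := degc_pos k Y 1 hdim'.le _ (CohqB.AmpCocycle.isAmple_pullback i hA) hdim'
  unfold dOn
  rw [pull_mk i hA.1]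
  exact h.le

end K909.Kleiman
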