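import Groth.Agent.Vanish.K909.AltD
import Groth.Agent.S17401

/-!
# (ALT) from separation of sections (`K84.Iface.NodeB`)
-/

set_option autoImplicit false
universe u
open CategoryTheory CategoryTheory.Limits AlgebraicGeometry TopologicalSpace Topology
open Groth.Agent Groth.Agent.VarietyB K84.Iface K909.AltInterface K660.AltE

namespace K909.AltFinal

theorem kaw (k : Type u) [Field k] [IsAlgClosed k] : Kaw k := by
  intro X f _ _ _ _ A hA hAmp r D hD Nj hN hNk
  obtain ⟨Z, τ, h1, h2, h3, h4, h5, h6, -⟩ := Groth.Agent.S17401.result f A hA hAmp D hD Nj hN hNk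
  exact ⟨Z, τ, h1, h2, h3, h4, h5, h6⟩

theorem altDim_all (k : Type u) [Field k] [IsAlgClosed k] [CharZero k] (hNB : NodeB k) : ∀ n, AltDim k n
  | 0 => altDim_of_altPn k 0 (kaw k) (AltD.altPn_zero k)
  | n + 1 => altDim_of_altPn k (n + 1) (kaw k) (AltD.altPn_succ k n hNB (altDim_all k hNB n))

/-- (ALT), given separation of sections. -/
theorem alt (k : Type u) [Field k] [IsAlgClosed k] [CharZero k] (hNB : NodeB k) : Alt k := by
  refine alt_of_altDim (altDim_all k hNB) ?_
  intro X f _ _
  let iX : X.Over (Spec (CommRingCat.of k)) := ⟨f⟩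
  have : LocallyOfFiniteType (X ↘ (Spec (CommRingCat.of k))) := inferInstanceAs (LocallyOfFiniteType f)
  exact ⟨_, DimSch.topologicalKrullDim_eq_trd k (X := X)⟩

end K909.AltFinal
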