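import Groth.Agent.Vanish.K909.Kleiman
import Groth.Agent.CohqB.AmpGeneric

/-!
# Nef iff `L^ν ⊗ A` is ample for all `ν > 0`
-/

set_option autoImplicit false
universe u
open CategoryTheory CategoryTheory.Limits AlgebraicGeometry

namespace K909.Kleiman

open Groth.Agent Groth.Agent.Fga.PicMon Groth.Agent.Grpsch.PicGrp K909.InterML Groth.Agent.Pic13.H970.IntForm

theorem fin_one_eq {X : Scheme.{u}} (c : Pic X) :
    (fun _ : Fin 1 => c) = (Fin.cons c (fun i : Fin 0 => i.elim0) : Fin 1 → Pic X) := by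
  funext i
  cases i using Fin.cases with
  | zero => rfl
  | succ i => exact i.elim0

section curve

variable (k : Type u) [Field k] (Y : Scheme.{u}) [Y.Over (Spec (CommRingCat.of k))]
  [IsProper (Y ↘ Spec (CommRingCat.of k))] (d : ℕ) (hd : topologicalKrullDim Y ≤ d)
  (h1 : topologicalKrullDim Y ≤ (1 : ℕ))

/-- The degree on a scheme of dimension `≤ 1`, as a function on the Picard group. -/
noncomputable abbrev degc (c : Pic Y) : ℤ := inter k Y d (Coh.structureModule Y) (fun _ : Fin 1 => c)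

include h1 in
theorem dim_unit_le : topologicalKrullDim (CohB1.support (Coh.structureModule Y)) ≤ ((0 + 1 : ℕ) : WithBot ℕ∞) := by
  rw [Pic13.H970.Assembly.support_unit]
  exact (Topology.IsInducing.subtypeVal.topologicalKrullDim_le).trans h1

include hd h1 in
theorem degc_mul (a b : Pic Y) : degc k Y d (a * b) = degc k Y d a + degc k Y d b := by
  have := Fga.IntAdd.isNoetherian k Y
  unfold degc
  rw [fin_one_eq, fin_one_eq, fin_one_eq]
  exact inter_cons_mul k Y d hd _ (CurvesC.UnitCoh.isCoh_unit Y) _ _ _ (dim_unit_le Y h1)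

include hd h1 in
theorem degc_zpow (a : Pic Y) (n : ℤ) : degc k Y d (a ^ n) = n * degc k Y d a := by
  have := Fga.IntAdd.isNoetherian k Y
  unfold degc
  rw [fin_one_eq, fin_one_eq]
  exact inter_cons_zpow k Y d hd _ (CurvesC.UnitCoh.isCoh_unit Y) _ _ _ (dim_unit_le Y h1)

include hd h1 in
theorem degc_pow (a : Pic Y) (n : ℕ) : degc k Y d (a ^ n) = n * degc k Y d a := by
  have := degc_zpow k Y d hd h1 a n
  simpa using this

include hd in
theorem degc_pos (L : Y.Modules) (hL : CohB1.IsAmple L) (h1' : topologicalKrullDim Y = (1 : ℕ)) :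
    0 < degc k Y d (mk L hL.1) := by
  have := Fga.IntAdd.isNoetherian k Y
  exact Pic13.H970.IntForm.I_pos k Y d hd _ (CurvesC.UnitCoh.isCoh_unit Y) (fun _ => L) (fun _ => hL) (fun _ => hL.1)
    (by rw [Pic13.H970.Assembly.support_unit,
      IsHomeomorph.topologicalKrullDim_eq _ (Homeomorph.Set.univ Y).isHomeomorph, h1'])

include hd in
theorem curveDeg_eq_degc (L : Y.Modules) (hL : PicF.IsInvertible L) (h1 : topologicalKrullDim Y ≤ (1 : ℕ)) :
    Pic13.curveDeg k (Y ↘ Spec (CommRingCat.of k)) L = degc k Y d (mk L hL) := by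
  unfold degc
  rw [inter_one k Y d hd L hL h1, Pic13.H972.Glue.euler_eq_euler k Y d 1 hd h1,
    Pic13.H972.Glue.euler_eq_euler k Y d 1 hd h1]
  rfl

end curve

variable (k : Type u) [Field k] (nak : Nak.{u} k) (X : Scheme.{u}) [X.Over (Spec (CommRingCat.of k))]
  [IsProper (X ↘ Spec (CommRingCat.of k))] (d : ℕ) (hd : topologicalKrullDim X ≤ d)
  (L : X.Modules) (hL : PicF.IsInvertible L) (A : X.Modules) (hA : CohB1.IsAmple A)

include nak hd in
/-- `L^p ⊗ A` is ample for `L` nef and `A` ample. -/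
theorem isAmple_tensorPow_tensor (hnef : Nef k X L) (hL : PicF.IsInvertible L) (hA : CohB1.IsAmple A) (p : ℕ) :
    CohB1.IsAmple (CohB1.tensorMod (CohB1.tensorPow L p) A) := by
  have h := isAmple_combo (d := d) nak hd hnef hL hA p 1 one_pos
  have hinv : PicF.IsInvertible (CohB1.tensorMod (CohB1.tensorPow L p) A) :=
    Fdesc.LocGen.isInvertible_tensorMod (Fdesc.LocGen.isInvertible_tensorPow hL p) hA.1
  have e : mk _ (isInvertible_combo X hL hA.1 p 1) = mk _ hinv := by
    rw [mk_combo X hL hA.1, pow_one, ← mk_tensorPow hL, mk_mul_mk]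
  obtain ⟨i⟩ := (mk_eq_iff _ _).mp e
  exact CohqB.AmpCocycle.isAmple_of_iso i h

/-- If all `L^ν ⊗ A`, `ν > 0`, are ample, then `L` is nef (no Nakai needed). -/
theorem nef_of_isAmple (hL : PicF.IsInvertible L) (hA : CohB1.IsAmple A)
    (h : ∀ ν : ℕ, 0 < ν → CohB1.IsAmple (CohB1.tensorMod (CohB1.tensorPow L ν) A)) : Nef k X L := by
  intro Y i _ hY hdim
  letI : Y.Over (Spec (CommRingCat.of k)) := ⟨i ≫ (X ↘ Spec (CommRingCat.of k))⟩
  have hi : i ≫ (X ↘ Spec (CommRingCat.of k)) = Y ↘ Spec (CommRingCat.of k) := rfl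
  haveI : IsProper (Y ↘ Spec (CommRingCat.of k)) := by rw [← hi]; infer_instance
  have hdim' : topologicalKrullDim Y = (1 : ℕ) := by rw [hdim]; rfl
  have hLY := Fdesc.LocGen.isInvertible_pullback i hL
  rw [hi, curveDeg_eq_degc k Y 1 hdim'.le _ hLY hdim'.le]
  by_contra hneg
  push Not at hneg
  have key : ∀ ν : ℕ, 0 < ν → 0 < (ν : ℤ) * degc k Y 1 (mk _ hLY) + degc k Y 1 (pull i (mk A hA.1)) := by
    intro ν hν
    have h1 := CohqB.AmpCocycle.isAmple_pullback i (h ν hν)
    have h2 := degc_pos k Y 1 hdim'.le _ h1 hdim'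
    have e : mk _ h1.1 = mk _ hLY ^ ν * pull i (mk A hA.1) := by
      have e1 : mk _ h1.1 = pull i (mk _ (h ν hν).1) := (pull_mk i (h ν hν).1).symm
      have e2 : mk _ (h ν hν).1 = mk L hL ^ ν * mk A hA.1 := by rw [← mk_tensorPow hL, mk_mul_mk]
      rw [e1, e2, map_mul, map_pow, pull_mk i hL]
    rw [e, degc_mul k Y 1 hdim'.le hdim'.le, degc_pow k Y 1 hdim'.le hdim'.le] at h2
    exact h2
  have hbig := key ((degc k Y 1 (pull i (mk A hA.1))).toNat + 1) (Nat.succ_pos _)
  have h3 : degc k Y 1 (pull i (mk A hA.1)) ≤ ((degc k Y 1 (pull i (mk A hA.1))).toNat : ℤ) := Int.self_le_toNat _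
  push_cast at hbig
  nlinarith

include nak hd in
theorem nef_iff (hL : PicF.IsInvertible L) (hA : CohB1.IsAmple A) :
    Nef k X L ↔ ∀ ν : ℕ, 0 < ν → CohB1.IsAmple (CohB1.tensorMod (CohB1.tensorPow L ν) A) :=
  ⟨fun h ν _ => isAmple_tensorPow_tensor k nak X d hd L A h hL hA ν, nef_of_isAmple k X L A hL hA⟩

end K909.Kleiman
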