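import Groth.Agent.S17106
import Groth.Agent.S5005
import Groth.Agent.Models.H65.GenTriv
import Groth.Agent.Flat2F.HHSeq
import Groth.Agent.Ega2.TensHom
import Groth.Agent.Ega2.TensMon
import Groth.Agent.Sga67.TensorOps

/-!
# Kodaira and Akizuki–Nakano vanishing from the logarithmic statement S17106 with the empty divisor
-/

set_option autoImplicit false
universe u
open CategoryTheory CategoryTheory.Limits AlgebraicGeometry

namespace K909.KodAkn

open Groth.Agent

/-- the logarithmic module of the empty divisor -/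
noncomputable def logMod0 {X S : Scheme.{u}} {f : X ⟶ S} {Ω' : X.Modules} (d : OmegaSh.Der f Ω')
    (D : Fin 0 → X.IdealSheafData) : LogNCD.LogMod d D where
  L := Ω'
  ι := 𝟙 _
  res i := i.elim0
  mono := inferInstance
  res_ι i := i.elim0
  rule U g _ := by
    refine ⟨fun x hx => by simpa using hx, fun i => i.elim0, fun i => i.elim0, ?_, fun i => i.elim0, fun i => i.elim0⟩
    rw [eq_top_iff]
    intro x _
    exact Submodule.subset_span (Or.inl ⟨x, rfl⟩)

theorem isNCD0 {X S : Scheme.{u}} (f : X ⟶ S) (D : Fin 0 → X.IdealSheafData) : LogNCD.IsNCD D f := by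
  rintro x ⟨⟨i, -⟩⟩
  exact i.elim0

/-- Akizuki–Nakano vanishing. -/
theorem akn (k : Type u) [Field k] [IsAlgClosed k] [CharZero k]
    (X : Scheme.{u}) [X.Over (Spec (CommRingCat.of k))] [IsProper (X ↘ Spec (CommRingCat.of k))]
    [Smooth (X ↘ Spec (CommRingCat.of k))] [IrreducibleSpace X] (n : ℕ) (hn : topologicalKrullDim X = n)
    (L Linv : X.Modules) (hL : CohB1.IsAmple L) (hLinv : ClSub.IsInverseOf Linv L)
    (a b : ℕ) (Om : X.Modules) (hOm : ExtPow.IsExtPow a (Omega.sheaf (X ↘ Spec (CommRingCat.of k))) Om)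
    (hab : a + b < n) :
    Subsingleton (Coh.HH X (CohB1.tensorMod Om Linv) b) := by
  have hd := S5005.result (X ↘ Spec (CommRingCat.of k))
  have h := S17106.result k X n hn L Linv hL hLinv (OmegaSh.dOmega (X ↘ Spec (CommRingCat.of k))) hd
    (r := 0) (fun i => i.elim0) (isNCD0 _ _) (logMod0 _ _) ∅ a Om hOm b hab
  have h1 : (∏ j ∈ (∅ : Finset (Fin 0)), (fun i => i.elim0 : Fin 0 → X.IdealSheafData) j) = ⊤ := by
    rw [Finset.prod_empty]
    rfl
  rw [h1] at h
  obtain ⟨e⟩ := Models.H65.GenTriv.idealMod_top (X := X)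
  obtain ⟨e1⟩ := Ega2.TensHom.tensCongr (Iso.refl Om) e
  obtain ⟨e2⟩ := Ega2.TensHom.tensCongr (e1 ≪≫ Ega2.Tens.runit Om) (Iso.refl Linv)
  exact Flat2F.HHSeq.subsingleton_HH_of_iso e2 b h

/-- Kodaira vanishing. -/
theorem kod (k : Type u) [Field k] [IsAlgClosed k] [CharZero k]
    (X : Scheme.{u}) [X.Over (Spec (CommRingCat.of k))] [IsProper (X ↘ Spec (CommRingCat.of k))]
    [Smooth (X ↘ Spec (CommRingCat.of k))] [IrreducibleSpace X] (n : ℕ) (hn : topologicalKrullDim X = n)
    (L Linv : X.Modules) (hL : CohB1.IsAmple L) (hLinv : ClSub.IsInverseOf Linv L) (b : ℕ) (hb : b < n) :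
    Subsingleton (Coh.HH X Linv b) := by
  have h := akn k X n hn L Linv hL hLinv 0 b (Coh.structureModule X) (Sga67.TensorOps.isExtPow_zero _) (by omega)
  exact Flat2F.HHSeq.subsingleton_HH_of_iso (Ega2.Tens.lunit Linv) b h

end K909.KodAkn
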