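import Groth.Agent.Vanish.K909.NefIff
import Groth.Agent.Pic13.H946.CoreDev
import Groth.Agent.S2329

/-!
# Uniform vanishing for a family of twists (Fujita's theorem on projective manifolds)

For a class `𝒩` of invertible modules, `VanGe k 𝒩 H F j`: `∃ p₀, H^i(X, F ⊗ N ⊗ H^p) = 0` for `N ∈ 𝒩`, `p ≥ p₀`,
`i ≥ j`.  `vanGe_of_structure`: from `O_X` to all coherent modules.  `vanGe_nef`: for the nef modules when Kodaira
vanishing `H^i(X, W ⊗ M) = 0` (`M` ample, `i ≥ 1`) holds for some invertible `W`.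
-/

set_option autoImplicit false
universe u
open CategoryTheory CategoryTheory.Limits AlgebraicGeometry Opposite TopologicalSpace

namespace K909.Fujita

open Groth.Agent Groth.Agent.Ega2 Groth.Agent.Fdesc.LocGen Groth.Agent.Fga.PicMon Groth.Agent.CohqB.SerTw
open Groth.Agent.VarietyA.EulerLES Groth.Agent.Pic13.H946 Groth.Agent.Pic13.H946.CoreGood

section Def

variable (k : Type u) [Field k] {X : Scheme.{u}} [X.Over (Spec (CommRingCat.of k))] (𝒩 : X.Modules → Prop)

/-- Uniform vanishing in degrees `≥ j` over the class `𝒩`. -/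
def VanGe (H F : X.Modules) (j : ℕ) : Prop :=
  ∃ p₀ : ℕ, ∀ N : X.Modules, PicF.IsInvertible N → 𝒩 N → ∀ p : ℕ, p₀ ≤ p → ∀ i : ℕ, j ≤ i →
    Subsingleton (Coh.HH X (CohB1.tensorMod F (CohB1.tensorMod N (CohB1.tensorPow H p))) i)

variable {k 𝒩}

omit [X.Over (Spec (CommRingCat.of k))] in
theorem VanGe.congr {H F G : X.Modules} {j : ℕ} (h : VanGe 𝒩 H F j) (hFG : mc F = mc G) : VanGe 𝒩 H G j := by
  obtain ⟨p₀, h⟩ := h
  refine ⟨p₀, fun N hN hn p hp i hi => ?_⟩
  exact hh_congr (by simp only [mc_tensor, hFG]) (h N hN hn p hp i hi)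

omit [X.Over (Spec (CommRingCat.of k))] in
theorem VanGe.mono {H F : X.Modules} {j j' : ℕ} (h : VanGe 𝒩 H F j) (hj : j ≤ j') : VanGe 𝒩 H F j' := by
  obtain ⟨p₀, h⟩ := h
  exact ⟨p₀, fun N hN hn p hp i hi => h N hN hn p hp i (hj.trans hi)⟩

variable (k)

include k in
theorem VanGe.right {H : X.Modules} (hH : PicF.IsInvertible H) {S : ShortComplex X.Modules} (hS : S.ShortExact) {j : ℕ}
    (h2 : VanGe 𝒩 H S.X₂ j) (h1 : VanGe 𝒩 H S.X₁ (j + 1)) : VanGe 𝒩 H S.X₃ j := by
  obtain ⟨p₁, h1⟩ := h1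
  obtain ⟨p₂, h2⟩ := h2
  refine ⟨max p₁ p₂, fun N hN hn p hp i hi => ?_⟩
  have hW : PicF.IsInvertible (CohB1.tensorMod N (CohB1.tensorPow H p)) :=
    isInvertible_tensorMod hN (isInvertible_tensorPow hH p)
  have hS' := shortExact_tw hW hS
  have a2 := h2 N hN hn p (le_trans (le_max_right _ _) hp) i hi
  have a1 := h1 N hN hn p (le_trans (le_max_left _ _) hp) (i + 1) (by omega)
  refine subsingleton_of_forall_eq 0 fun y => ?_
  obtain ⟨x, rfl⟩ := (exactA₃ k (S.map (tw (CohB1.tensorMod N (CohB1.tensorPow H p)))) hS' i (i + 1) rfl y).mp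
    (Subsingleton.elim (α := Coh.HH X (CohB1.tensorMod S.X₁ (CohB1.tensorMod N (CohB1.tensorPow H p))) (i + 1)) _ _)
  have hx : x = 0 := Subsingleton.elim (α := Coh.HH X (CohB1.tensorMod S.X₂
    (CohB1.tensorMod N (CohB1.tensorPow H p))) i) x 0
  rw [hx, map_zero]
  rfl

variable {k}

omit [X.Over (Spec (CommRingCat.of k))] in
/-- Shifting the twist. -/
theorem VanGe.of_twist {H F : X.Modules} {j m : ℕ}
    (h : VanGe 𝒩 H (CohB1.tensorMod F (CohB1.tensorPow H m)) j) : VanGe 𝒩 H F j := by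
  obtain ⟨p₀, h⟩ := h
  refine ⟨p₀ + m, fun N hN hn p hp i hi => ?_⟩
  obtain ⟨q, rfl⟩ : ∃ q, p = q + m := ⟨p - m, by omega⟩
  refine hh_congr ?_ (h N hN hn q (by omega) i hi)
  simp only [mc_tensor, mc_tensorPow, pow_add]
  rw [mul_assoc, mul_comm (mc H ^ m), mul_assoc]

omit [X.Over (Spec (CommRingCat.of k))] in
theorem VanGe.freeMod {H : X.Modules} {j : ℕ} (h : VanGe 𝒩 H (Coh.structureModule X) j) (n : ℕ) :
    VanGe 𝒩 H (FlatMod.freeMod X n) j := by
  obtain ⟨p₀, h⟩ := h
  refine ⟨p₀, fun N hN hn p hp i hi => ?_⟩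
  have := Fga.HShift.subsingleton_coproduct
    (fun _ : Fin n => CohB1.tensorMod (Coh.structureModule X) (CohB1.tensorMod N (CohB1.tensorPow H p))) i
    (fun _ => h N hN hn p hp i hi)
  let e : (tw (CohB1.tensorMod N (CohB1.tensorPow H p))).obj (FlatMod.freeMod X n) ≅
      ∐ fun _ : Fin n => CohB1.tensorMod (Coh.structureModule X) (CohB1.tensorMod N (CohB1.tensorPow H p)) :=
    PreservesCoproduct.iso (tw _) _
  exact ((equivΓ e i).toEquiv.subsingleton_congr).mpr this

end Def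

section Resolve

variable (k : Type u) [Field k] {X : Scheme.{u}} [X.Over (Spec (CommRingCat.of k))]
  [IsProper (X ↘ Spec (CommRingCat.of k))] {𝒩 : X.Modules → Prop}

include k in
/-- Uniform vanishing for the structure sheaf implies uniform vanishing for all coherent modules. -/
theorem vanGe_of_structure {H : X.Modules} (hH : CohB1.IsAmple H) (h : VanGe 𝒩 H (Coh.structureModule X) 1)
    (F : X.Modules) (hF : Coh.IsCoh F) : VanGe 𝒩 H F 1 := by
  have hNoeth : IsNoetherian X := VarietyA.TwistExist.isNoetherian k X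
  have hsep : X.IsSeparated := Fga.HypSec.isSeparated k X
  obtain ⟨d, hd⟩ := EtpbcA.CdFinDim.exists_dim_le (X ↘ Spec (CommRingCat.of k))
  have key : ∀ t j : ℕ, 1 ≤ j → d + 1 ≤ j + t → ∀ F : X.Modules, Coh.IsCoh F → VanGe 𝒩 H F j := by
    intro t
    induction t with
    | zero =>
      intro j _ hj F _
      exact ⟨0, fun N _ _ p _ i hi => Fga.EulerLEAdd.subsingleton_HH X d hd _ i (by omega)⟩
    | succ t ih =>
      intro j hj hjt F hF
      obtain ⟨m, hm⟩ := S2325.result X H hH F hF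
      have hF' : Coh.IsCoh (CohB1.tensorMod F (CohB1.tensorPow H m)) :=
        Fga.TwistCoh.isCoh_tensor hF (isInvertible_tensorPow hH.1 m)
      obtain ⟨r, p, hp⟩ := Ega2.H287.FinGenFree.exists_epi_freeMod hF' (hm m le_rfl)
      have hS : (ShortComplex.mk (kernel.ι p) p (kernel.condition p)).ShortExact :=
        { exact := ShortComplex.exact_of_f_is_kernel _ (kernelIsKernel p)
          mono_f := inferInstanceAs (Mono (kernel.ι p))
          epi_g := hp }
      refine VanGe.of_twist (m := m) ?_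
      refine VanGe.right k (S := ShortComplex.mk (kernel.ι p) p (kernel.condition p)) hH.1 hS ?_ ?_
      · exact (h.mono hj).freeMod r
      · exact ih (j + 1) (by omega) (by omega) _
          (PerfA.CohSerre.isCoh_kernel p (PerfA.CohSerre.isCoh_freeMod r) hF'.1)
  exact key d 1 le_rfl (by omega) F hF

open K909.Kleiman Groth.Agent.Grpsch.PicGrp in
/-- Uniform vanishing over the nef modules for `O_X`, from Kodaira vanishing. -/
theorem vanGe_nef (nak : Nak.{u} k) {W : X.Modules} (hW : PicF.IsInvertible W)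
    (kod : ∀ M : X.Modules, CohB1.IsAmple M → ∀ i : ℕ, 1 ≤ i → Subsingleton (Coh.HH X (CohB1.tensorMod W M) i))
    {H : X.Modules} (hH : CohB1.IsAmple H) : VanGe (Nef k X) H (Coh.structureModule X) 1 := by
  have hNoeth : IsNoetherian X := VarietyA.TwistExist.isNoetherian k X
  have hsep : X.IsSeparated := Fga.HypSec.isSeparated k X
  obtain ⟨d, hd⟩ := EtpbcA.CdFinDim.exists_dim_le (X ↘ Spec (CommRingCat.of k))
  obtain ⟨n₀, -, hn₀⟩ := S2329.result X H (dual W) hH (isInvertible_dual hW)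
  refine ⟨n₀, fun N hN hnef p hp i hi => ?_⟩
  have h1 := (hn₀ p hp).1
  have h2 := isAmple_tensorPow_tensor k nak X d hd N _ hnef hN h1 1
  refine hh_congr ?_ (kod _ h2 i hi)
  have h3 : mc W * mc (dual W) = 1 := by
    rw [← mc_tensor, ← mc_one, mc_eq_iff]
    exact ⟨@asIso _ _ _ _ (ev W) (isIso_ev hW)⟩
  simp only [mc_tensor, mc_tensorPow, pow_one, mc_one, one_mul]
  calc mc W * (mc N * (mc H ^ p * mc (dual W))) = (mc W * mc (dual W)) * (mc N * mc H ^ p) := by
        ac_rfl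
    _ = mc N * mc H ^ p := by rw [h3, one_mul]

end Resolve

end K909.Fujita
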