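import Groth.Agent.Vanish.K909.ChiGrow
import Groth.Agent.Vanish.K909.NefTens
import Groth.Agent.PosLin.K931.Basic
import Groth.Agent.Pic13.H946.Exist

/-!
# A nef module is big iff its top self-intersection is positive
-/

set_option autoImplicit false
universe u
open CategoryTheory CategoryTheory.Limits AlgebraicGeometry

namespace K909.BigCrit

open Groth.Agent Groth.Agent.Fga.PicMon Groth.Agent.Grpsch.PicGrp K909.InterML K909.Kleiman K909.RootArg
  Groth.Agent.Pic13.H970.IntForm Groth.Agent.Fdesc.LocGen Groth.Agent.Fga.RegSec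

variable (k : Type u) [Field k] (X : Scheme.{u}) [X.Over (Spec (CommRingCat.of k))]
  [IsProper (X ↘ Spec (CommRingCat.of k))] (d : ℕ) (hd : topologicalKrullDim X ≤ d)

omit [X.Over (Spec (CommRingCat.of k))] [IsProper (X ↘ Spec (CommRingCat.of k))] in
/-- A mono `A → B` of invertible modules gives a nonzero section of `B ⊗ A⁻¹`. -/
theorem exists_sec [Nonempty X] {A B : X.Modules} (hA : PicF.IsInvertible A) (φ : A ⟶ B) (hφ : Mono φ) :
    ∃ s : Coh.structureModule X ⟶ CohB1.tensorMod B (dual A), s ≠ 0 := by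
  have hdA := isInvertible_dual hA
  let e : CohB1.tensorMod A (dual A) ≅ Coh.structureModule X := @asIso _ _ _ _ (ev A) (isIso_ev hA)
  have hS : (ShortComplex.mk φ (cokernel.π φ) (cokernel.condition φ)).ShortExact :=
    { exact := ShortComplex.exact_cokernel _
      mono_f := hφ
      epi_g := inferInstanceAs (Epi (cokernel.π φ)) }
  have hS' := CohqB.SerTw.shortExact_tw hdA hS
  obtain ⟨ψ, hψ⟩ : ∃ ψ : CohB1.tensorMod A (dual A) ⟶ CohB1.tensorMod B (dual A), Mono ψ :=
    ⟨(CohqB.SerTw.tw (dual A)).map φ, hS'.mono_f⟩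
  refine ⟨e.inv ≫ ψ, fun h => ?_⟩
  have h1 : ψ = 0 := by
    rw [← cancel_epi e.inv, h, comp_zero]
  have h2 : IsZero (CohB1.tensorMod A (dual A)) := by
    subst h1
    exact IsZero.of_mono_zero _ (CohB1.tensorMod B (dual A))
  have h3 : IsZero (Coh.structureModule X) := h2.of_iso e.symm
  have h4 := CohqB.DevSupport.support_eq_empty_of_isZero h3
  rw [Pic13.H970.Assembly.support_unit] at h4
  exact Set.univ_nonempty.ne_empty h4

variable {X}

include hd in
/-- Exchange step: replacing an ample entry `a` by `λ ≥ a` does not decrease the number. -/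
theorem exchange [IsIntegral X] (r : ℕ) (hr : topologicalKrullDim X ≤ (r + 1 : ℕ)) {A B : X.Modules}
    (hA : PicF.IsInvertible A) (hB : PicF.IsInvertible B) (φ : A ⟶ B) (hφ : Mono φ) (c : Fin r → Pic X)
    (hnn : ∀ Q : X.Modules, Coh.IsCoh Q → topologicalKrullDim (CohB1.support Q) ≤ r → 0 ≤ inter k X d Q c) :
    inter k X d (Coh.structureModule X) (Fin.cons (mk A hA) c : Fin (r + 1) → Pic X) ≤
      inter k X d (Coh.structureModule X) (Fin.cons (mk B hB) c : Fin (r + 1) → Pic X) := by
  have := Fga.IntAdd.isNoetherian k X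
  obtain ⟨s, hs⟩ := exists_sec X hA φ hφ
  have hN : PicF.IsInvertible (CohB1.tensorMod B (dual A)) := isInvertible_tensorMod hB (isInvertible_dual hA)
  have hO : Coh.IsCoh (Coh.structureModule X) := CurvesC.UnitCoh.isCoh_unit X
  have hNc : Coh.IsCoh (CohB1.tensorMod B (dual A)) := Fga.HodgeSec.isCoh_of_isInvertible hN
  have hm : Mono s := CurvesB.RankOne.mono_of_ne_zero (CurvesB.InvEmb.locEmb_of_isInvertible hN) s hs
  have hS : (ShortComplex.mk s (cokernel.π s) (cokernel.condition s)).ShortExact :=
    { exact := ShortComplex.exact_cokernel _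
      mono_f := hm
      epi_g := inferInstanceAs (Epi (cokernel.π s)) }
  have hQc : Coh.IsCoh (cokernel s) := Sga67.CohBasic.isCoh_cokernel s hO.1 hNc
  have hgen := Pic13.H946.Exist.notMem_support_cokernel hN s hs
  have hdB := isInvertible_dual hB
  have hBB : mc (dual B) * mc B = 1 := by
    have := congrArg (toMC X) (show mk (dual B) (isInvertible_dual hB) * mk B hB = 1 by
      rw [← inv_mk hB, inv_mul_cancel])
    rwa [map_mul, map_one] at this
  have hadd := Fga.IntAdd.isAdd_tensor X (isAdd_inter k X d hd c) hdB _ hS hO hNc hQc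
  simp only at hadd
  -- the quotient has small support
  have hQ' : Coh.IsCoh (CohB1.tensorMod (dual B) (cokernel s)) :=
    Sga67.CohBasic.isCoh_of_iso (Ega2.Tens.swap _ _) (Fga.TwistCoh.isCoh_tensor hQc hdB)
  have hdim : topologicalKrullDim (CohB1.support (CohB1.tensorMod (dual B) (cokernel s))) ≤ r := by
    rw [Fga.PosMain.support_tensor X hdB hB hBB]
    have hne : CohB1.support (cokernel s) ≠ Set.univ := by
      intro h
      rw [h] at hgen
      exact hgen (Set.mem_univ _)
    have hlt := Fga.DimLt.topologicalKrullDim_lt (A := Set.univ) (irreducibleSpace_def X |>.mp inferInstance)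
      (Ega3B.Devissage.isClosed_support hQc) (Set.subset_univ _) hne (d := r + 1) (by
        refine lt_of_le_of_lt ((Topology.IsInducing.subtypeVal.topologicalKrullDim_le).trans hr) ?_
        exact_mod_cast Nat.lt_succ_self _)
    have hlt2 : topologicalKrullDim (CohB1.support (cokernel s)) < ((r + 1 : ℕ) : WithBot ℕ∞) := hlt
    rw [Nat.cast_add, Nat.cast_one, ENat.WithBot.lt_add_one_iff] at hlt2
    exact hlt2
  have hpos := hnn _ hQ' hdim
  have h1 : inter k X d (CohB1.tensorMod (dual B) (Coh.structureModule X)) c = inter k X d (dual B) c :=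
    inter_iso k X d _ (Ega2.Tens.runit (dual B)) c
  have h2 : inter k X d (CohB1.tensorMod (dual B) (CohB1.tensorMod B (dual A))) c = inter k X d (dual A) c := by
    obtain ⟨e⟩ := (mc_eq_iff (CohB1.tensorMod (dual B) (CohB1.tensorMod B (dual A))) (dual A)).mp (by
      rw [mc_tensor, mc_tensor, ← mul_assoc, hBB, one_mul])
    exact inter_iso k X d _ e c
  have h3 : ∀ {M : X.Modules} (hM : PicF.IsInvertible M),
      inter k X d (Coh.structureModule X) (Fin.cons (mk M hM) c : Fin (r + 1) → Pic X) =
        inter k X d (Coh.structureModule X) c - inter k X d (dual M) c := by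
    intro M hM
    rw [inter_cons, inv_mk hM]
    have := I_cons_mk k X d (Coh.structureModule X) (isInvertible_dual hM) (fun i => (c i)⁻¹)
    rw [this]
    change inter k X d (Coh.structureModule X) c - inter k X d (CohB1.tensorMod (dual M) (Coh.structureModule X)) c = _
    rw [inter_iso k X d _ (Ega2.Tens.runit (dual M)) c]
  rw [h3 hA, h3 hB]
  rw [h1, h2] at hadd
  linarith

include hd in
/-- **Big implies positive top self-intersection.** -/
theorem pos_of_big (nak : Nak.{u} k) [IsIntegral X] (n : ℕ) (hn : topologicalKrullDim X = n) {A B : X.Modules}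
    (hA : CohB1.IsAmple A) (hB : PicF.IsInvertible B) (hnef : Nef k X B) (φ : A ⟶ B) (hφ : Mono φ) :
    0 < inter k X d (Coh.structureModule X) (fun _ : Fin n => mk B hB) := by
  classical
  have := Fga.IntAdd.isNoetherian k X
  have hO : Coh.IsCoh (Coh.structureModule X) := CurvesC.UnitCoh.isCoh_unit X
  have hdimO : topologicalKrullDim (CohB1.support (Coh.structureModule X)) = n := by
    rw [Pic13.H970.Assembly.support_unit, IsHomeomorph.topologicalKrullDim_eq _ (Homeomorph.Set.univ X).isHomeomorph, hn]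
  have h0 : 0 < inter k X d (Coh.structureModule X) (fun _ : Fin n => mk A hA.1) :=
    I_pos k X d hd _ hO (fun _ => A) (fun _ => hA) (fun _ => hA.1) hdimO
  have key : ∀ S : Finset (Fin n), inter k X d (Coh.structureModule X) (fun _ : Fin n => mk A hA.1) ≤
      inter k X d (Coh.structureModule X) (S.piecewise (fun _ => mk B hB) (fun _ => mk A hA.1)) := by
    intro S
    induction S using Finset.induction_on with
    | empty => rw [Finset.piecewise_empty]
    | insert i S hi ih =>
      refine ih.trans ?_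
      rw [Finset.piecewise_insert]
      cases n with
      | zero => exact i.elim0
      | succ r =>
        obtain ⟨c', hc', h⟩ := exists_front k X d (Coh.structureModule X)
          (S.piecewise (fun _ => mk B hB) (fun _ => mk A hA.1)) i
        have h1 := h (mk B hB)
        have h2 := h (mk A hA.1)
        have h3 : Function.update (S.piecewise (fun _ => mk B hB) (fun _ => mk A hA.1)) i (mk A hA.1) =
            S.piecewise (fun _ => mk B hB) (fun _ => mk A hA.1) := by
          rw [Function.update_eq_self_iff, Finset.piecewise_eq_of_notMem _ _ _ hi]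
        rw [h3] at h2
        rw [h1, h2]
        refine exchange k d hd r hn.le hA.1 hB φ hφ c' fun Q hQ hQd => ?_
        refine nonneg_mixed (d := d) nak hd hnef hB hA Q hQ hQd c' fun j => ?_
        obtain ⟨j', -, hj'⟩ := hc' j
        rw [hj']
        by_cases hjS : j' ∈ S
        · left; rw [Finset.piecewise_eq_of_mem _ _ _ hjS]
        · right; rw [Finset.piecewise_eq_of_notMem _ _ _ hjS]
  have h1 := key Finset.univ
  rw [Finset.piecewise_univ] at h1
  exact lt_of_lt_of_le h0 h1

include hd in
/-- The same for a power. -/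
theorem pos_of_big_pow (nak : Nak.{u} k) [IsIntegral X] (n : ℕ) (hn : topologicalKrullDim X = n) {A L : X.Modules}
    (hA : CohB1.IsAmple A) (hL : PicF.IsInvertible L) (hnef : Nef k X L) {ν : ℕ} (hν : 0 < ν)
    (φ : A ⟶ CohB1.tensorPow L ν) (hφ : Mono φ) :
    0 < inter k X d (Coh.structureModule X) (fun _ : Fin n => mk L hL) := by
  have := Fga.IntAdd.isNoetherian k X
  have hO : Coh.IsCoh (Coh.structureModule X) := CurvesC.UnitCoh.isCoh_unit X
  have hdimO : topologicalKrullDim (CohB1.support (Coh.structureModule X)) ≤ n := by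
    rw [Pic13.H970.Assembly.support_unit, IsHomeomorph.topologicalKrullDim_eq _ (Homeomorph.Set.univ X).isHomeomorph, hn]
  have h1 := pos_of_big k d hd nak n hn hA (isInvertible_tensorPow hL ν) (Nef.tensorPow k X hL hnef ν) φ hφ
  have h2 := (ml k X d hd _ hO hdimO).map_smul_univ (fun _ => (ν : ℤ)) (fun _ => Additive.ofMul (mk L hL))
  have h3 : (fun i : Fin n => ((fun _ => (ν : ℤ)) i) • ((fun _ => Additive.ofMul (mk L hL)) : Fin n → Additive (Pic X)) i)
      = fun _ => Additive.ofMul (mk _ (isInvertible_tensorPow hL ν)) := by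
    funext i
    rw [mk_tensorPow hL]
    simp only [natCast_zsmul]
    rfl
  rw [h3, ml_apply, ml_apply] at h2
  simp only [toMul_ofMul, Finset.prod_const, Finset.card_univ, Fintype.card_fin, smul_eq_mul] at h2
  rw [h2] at h1
  exact (pos_iff_pos_of_mul_pos h1).mp (by positivity)

include hd in
/-- The numbers `(c₁ ⋯ c_n · P) = (c₁ ⋯ c_n · X)` for `P` invertible, `n ≥ dim X`. -/
theorem inter_invertible {n : ℕ} (hn : topologicalKrullDim X ≤ n) {P : X.Modules} (hP : PicF.IsInvertible P)
    (c : Fin n → Pic X) : inter k X d P c = inter k X d (Coh.structureModule X) c := by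
  have := Fga.IntAdd.isNoetherian k X
  have hO : Coh.IsCoh (Coh.structureModule X) := CurvesC.UnitCoh.isCoh_unit X
  have hdimO : topologicalKrullDim (CohB1.support (Coh.structureModule X)) ≤ n :=
    (Topology.IsInducing.subtypeVal.topologicalKrullDim_le).trans hn
  have h1 := I_cons_mk k X d (Coh.structureModule X) hP (fun i => (c i)⁻¹)
  rw [I_eq_zero k X d hd _ hO _ (lt_of_le_of_lt hdimO (by exact_mod_cast Nat.lt_succ_self n))] at h1
  have h2 : I k X d (CohB1.tensorMod P (Coh.structureModule X)) (fun i => (c i)⁻¹) = inter k X d P c :=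
    inter_iso k X d _ (Ega2.Tens.runit P) c
  rw [h2] at h1
  change 0 = inter k X d (Coh.structureModule X) c - inter k X d P c at h1
  linarith

/-- `χ ≤ h^0 + ∑_{i ≥ 1} h^i`. -/
theorem chi_le (hd : topologicalKrullDim X ≤ d) (G : X.Modules) :
    Curv2.euler k X G ≤ (Module.finrank k (Coh.HH X G 0) : ℤ) +
      ∑ i ∈ Finset.range d, (Module.finrank k (Coh.HH X G (i + 1)) : ℤ) := by
  rw [← Fga.IntAdd.eulerCharLE_eq k X d hd G]
  unfold FGA.eulerCharLE
  rw [Finset.sum_range_succ', add_comm]
  simp only [pow_zero, one_mul]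
  refine add_le_add le_rfl (Finset.sum_le_sum fun i _ => ?_)
  rcases neg_one_pow_eq_or ℤ (i + 1) with h | h <;> rw [h] <;> simp

open Groth.Agent.Fga in
/-- **Positive top self-intersection implies big**, if the higher cohomology of `H⁻¹ ⊗ L^ν` is `O(ν^{n-1})`. -/
theorem big_of_pos [IsIntegral X] (n : ℕ) (hn : topologicalKrullDim X = n) {H L : X.Modules}
    (hH : PicF.IsInvertible H) (hL : PicF.IsInvertible L)
    (hg : ∀ b : ℕ, 1 ≤ b → ∃ c : ℕ, ∀ ν : ℕ, 1 ≤ ν →
      Module.finrank k (Coh.HH X (CohB1.tensorMod (dual H) (CohB1.tensorPow L ν)) b) ≤ c * ν ^ (n - b))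
    (hpos : 0 < inter k X n (Coh.structureModule X) (fun _ : Fin n => mk L hL)) :
    ∃ (ν : ℕ) (φ : H ⟶ CohB1.tensorPow L ν), 0 < ν ∧ Mono φ := by
  have := Fga.IntAdd.isNoetherian k X
  have hdH := isInvertible_dual hH
  have hdHc : Coh.IsCoh (dual H) := Fga.HodgeSec.isCoh_of_isInvertible hdH
  obtain ⟨c, hc, m₀, h⟩ := K909.ChiGrow.chi_ge k X n hn.le (dual H) hdHc n
    ((Topology.IsInducing.subtypeVal.topologicalKrullDim_le).trans hn.le) L hL (by
      rw [inter_invertible k n hn.le hn.le hdH]
      exact hpos)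
  choose! C hC using hg
  -- choose `ν` large
  obtain ⟨K, hK⟩ := exists_nat_gt ((∑ i ∈ Finset.range n, (C (i + 1) : ℚ)) / c)
  set ν := max m₀ (K + 1) with hν
  have hν1 : 1 ≤ ν := le_trans (Nat.le_add_left 1 K) (le_max_right _ _)
  have h0 : Module.finrank k (Coh.HH X (CohB1.tensorMod (dual H) (CohB1.tensorPow L ν)) 0) ≠ 0 := by
    intro h0
    have h1 := h ν (le_max_left _ _)
    have h2 := chi_le k (d := n) hn.le (CohB1.tensorMod (dual H) (CohB1.tensorPow L ν))
    rw [h0, Nat.cast_zero, zero_add] at h2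
    have h3 : (∑ i ∈ Finset.range n, (Module.finrank k (Coh.HH X (CohB1.tensorMod (dual H) (CohB1.tensorPow L ν))
        (i + 1)) : ℤ)) ≤ (∑ i ∈ Finset.range n, (C (i + 1) : ℤ)) * (ν : ℤ) ^ (n - 1) := by
      rw [Finset.sum_mul]
      refine Finset.sum_le_sum fun i _ => ?_
      have h4 := hC (i + 1) (by omega) ν hν1
      have h5 : ν ^ (n - (i + 1)) ≤ ν ^ (n - 1) := Nat.pow_le_pow_right hν1 (by omega)
      exact_mod_cast h4.trans (Nat.mul_le_mul_left _ h5)
    have h6 : c * (ν : ℚ) ^ n ≤ (∑ i ∈ Finset.range n, (C (i + 1) : ℚ)) * (ν : ℚ) ^ (n - 1) := by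
      refine h1.trans ?_
      exact_mod_cast h2.trans h3
    have hνq : (0 : ℚ) < ν := by exact_mod_cast hν1
    rcases Nat.eq_zero_or_pos n with hn0 | hn0
    · subst hn0
      simp at h6
      linarith
    · have h7 : (ν : ℚ) ^ n = ν * (ν : ℚ) ^ (n - 1) := by
        rw [← pow_succ']
        congr 1
        omega
      rw [h7, ← mul_assoc] at h6
      have h8 := le_of_mul_le_mul_right h6 (by positivity)
      have h9 : (K : ℚ) < ν := by
        exact_mod_cast lt_of_lt_of_le (Nat.lt_succ_self K) (le_max_right _ _)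
      rw [div_lt_iff₀ hc] at hK
      nlinarith
  have hM : PicF.IsInvertible (CohB1.tensorMod (dual H) (CohB1.tensorPow L ν)) :=
    isInvertible_tensorMod hdH (isInvertible_tensorPow hL ν)
  obtain ⟨s, hs⟩ : ∃ s : Coh.structureModule X ⟶ CohB1.tensorMod (dual H) (CohB1.tensorPow L ν), s ≠ 0 := by
    rw [← K931.Basic.nontrivial_H0_iff]
    by_contra hc'
    rw [not_nontrivial_iff_subsingleton] at hc'
    exact h0 Module.finrank_zero_of_subsingleton
  have hmono := HodgeSec.mono_mulS hM hH s hs
  have hHH : mc (dual H) * mc H = 1 := by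
    have := congrArg (toMC X) (show mk (dual H) (isInvertible_dual hH) * mk H hH = 1 by
      rw [← inv_mk hH, inv_mul_cancel])
    rwa [map_mul, map_one] at this
  obtain ⟨e⟩ := (mc_eq_iff (CohB1.tensorMod (CohB1.tensorMod (dual H) (CohB1.tensorPow L ν)) H)
    (CohB1.tensorPow L ν)).mp (by
      rw [mc_tensor, mc_tensor, mul_right_comm, hHH, one_mul])
  exact ⟨ν, mulS s H ≫ e.hom, hν1, mono_comp _ _⟩

end K909.BigCrit
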