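import Groth.Agent.Vanish.K909.KodDual
import Groth.Agent.Vanish.K909.NefTens
import Groth.Agent.Vanish.K909.BigCrit

/-!
# Growth of cohomology for nef modules on projective manifolds (characteristic zero, modulo Kodaira and Nakai)
-/

set_option autoImplicit false
universe u
open CategoryTheory CategoryTheory.Limits AlgebraicGeometry Opposite TopologicalSpace

namespace K909.NefGrowth

open Groth.Agent Groth.Agent.Ega2 Groth.Agent.Fdesc.LocGen Groth.Agent.Fga.PicMon Groth.Agent.Grpsch.PicGrp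
open K909.Kleiman K909.Fujita K909.GrowthNef K909.KodDual

theorem isInvertible_of_iso {X : Scheme.{u}} {L L' : X.Modules} (e : L ≅ L') (h : PicF.IsInvertible L) :
    PicF.IsInvertible L' := fun x => by
  obtain ⟨U, hx, ⟨i⟩⟩ := h x
  exact ⟨U, hx, ⟨(Scheme.Modules.restrictFunctor U.ι).mapIso e.symm ≪≫ i⟩⟩

/-- A smooth irreducible proper scheme over a field is integral. -/
theorem isIntegral_of_smooth {k : Type u} [Field k] {X : Scheme.{u}} (f : X ⟶ Spec (CommRingCat.of k)) [Smooth f]
    [IrreducibleSpace X] : IsIntegral X := by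
  have hreg : ∀ x : X, IsRegularLocalRing (X.presheaf.stalk x) :=
    Lefpen.H705.ClosedPoint.isRegularLocalRing_stalk f
  have hdom : ∀ x : X, IsDomain (X.presheaf.stalk x) := fun x => CalgA.RegBasic.isDomain _
  have hred : IsReduced X := isReduced_of_isReduced_stalk X
  exact isIntegral_of_irreducibleSpace_of_isReduced _

variable (k : Type u) [Field k] (nak : Nak.{u} k) (kod : Kod.{u} k) (X : Scheme.{u})
  [X.Over (Spec (CommRingCat.of k))] [IsProper (X ↘ Spec (CommRingCat.of k))]
  [Smooth (X ↘ Spec (CommRingCat.of k))] [IrreducibleSpace X] (n : ℕ) (hn : topologicalKrullDim X = n)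

include nak kod hn in
/-- **Fujita vanishing** for the nef modules, all coherent modules. -/
theorem fujita {A : X.Modules} (hA : CohB1.IsAmple A) (F : X.Modules) (hF : Coh.IsCoh F) :
    VanGe (Nef k X) A F 1 := by
  obtain ⟨W, hW, -, hk⟩ := exists_dual k X n hn kod
  exact vanGe_of_structure k hA (vanGe_nef k nak hW hk hA) F hF

include nak kod hn in
theorem growth_coh {A : X.Modules} (hA : CohB1.IsAmple A) {L : X.Modules} (hL : PicF.IsInvertible L)
    (hnef : Nef k X L) (r : ℕ) (F : X.Modules) (hF : Coh.IsCoh F)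
    (hr : topologicalKrullDim (CohB1.support F) ≤ r) (b : ℕ) :
    ∃ c : ℕ, ∀ ν : ℕ, 1 ≤ ν →
      Module.finrank k (Coh.HH X (CohB1.tensorMod F (CohB1.tensorPow L ν)) b) ≤ c * ν ^ (r - b) := by
  refine growth k hL hA (fun F hF => ?_) r F hF hr b
  obtain ⟨p₀, h⟩ := fujita k nak kod X n hn hA F hF
  refine ⟨p₀, ?_⟩
  rintro N hN ⟨ν, rfl⟩ p hp i hi
  exact h _ hN (Nef.tensorPow k X hL hnef ν) p hp i hi

include nak kod hn in
theorem growth_main {A : X.Modules} (hA : CohB1.IsAmple A) {L : X.Modules} (hL : PicF.IsInvertible L)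
    (hnef : Nef k X L) (F : X.Modules) (hF : PicF.IsInvertible F) (b : ℕ) :
    ∃ c : ℕ, ∀ ν : ℕ, 1 ≤ ν →
      Module.finrank k (Coh.HH X (CohB1.tensorMod F (CohB1.tensorPow L ν)) b) ≤ c * ν ^ (n - b) := by
  have := Fga.IntAdd.isNoetherian k X
  refine growth_coh k nak kod X n hn hA hL hnef n F (Fga.HodgeSec.isCoh_of_isInvertible hF) ?_ b
  exact (Topology.IsInducing.subtypeVal.topologicalKrullDim_le).trans hn.le

include nak kod hn in
/-- **Nef and big** (S16896 modulo Nakai and Kodaira). -/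
theorem big_iff {H : X.Modules} (hH : CohB1.IsAmple H) {L Linv : X.Modules} (hL : PicF.IsInvertible L)
    (hLinv : ClSub.IsInverseOf Linv L) (hnef : Nef k X L) :
    (∃ (ν : ℕ) (A : X.Modules) (φ : A ⟶ CohB1.tensorPow L ν), 0 < ν ∧ CohB1.IsAmple A ∧ Mono φ) ↔
      0 < FGA.intNum k X n (fun _ : Fin n => Linv) (Coh.structureModule X) := by
  have hint : IsIntegral X := isIntegral_of_smooth (X ↘ Spec (CommRingCat.of k))
  have hLi : PicF.IsInvertible Linv := by
    obtain ⟨e⟩ := hLinv
    have h1 : mc Linv = mc (dual L) := by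
      have h2 : mc Linv * mc L = 1 := by rw [← mc_tensor, ← mc_one, mc_eq_iff]; exact ⟨e⟩
      have h3 : mc L * mc (dual L) = 1 := by
        rw [← mc_tensor, ← mc_one, mc_eq_iff]
        exact ⟨@asIso _ _ _ _ (ev L) (isIso_ev hL)⟩
      calc mc Linv = mc Linv * (mc L * mc (dual L)) := by rw [h3, mul_one]
        _ = mc (dual L) := by rw [← mul_assoc, h2, one_mul]
    obtain ⟨i⟩ := (mc_eq_iff _ _).mp h1
    exact isInvertible_of_iso i.symm (isInvertible_dual hL)
  have e : ∀ i : Fin n, Nonempty (CohB1.tensorMod ((fun _ : Fin n => L) i) ((fun _ : Fin n => Linv) i) ≅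
      Coh.structureModule X) := fun _ => ⟨Ega2.Tens.swap L Linv ≪≫ hLinv.some⟩
  rw [← InterML.inter_mk k X n (Coh.structureModule X) (fun _ : Fin n => L) (fun _ => Linv) (fun _ => hL)
    (fun _ => hLi) e]
  constructor
  · rintro ⟨ν, A, φ, hν, hA, hφ⟩
    exact BigCrit.pos_of_big_pow k n hn.le nak n hn hA hL hnef hν φ hφ
  · intro hpos
    obtain ⟨ν, φ, hν, hφ⟩ := BigCrit.big_of_pos k n hn hH.1 hL
      (fun b _ => growth_main k nak kod X n hn hH hL hnef _ (isInvertible_dual hH.1) b) hpos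
    exact ⟨ν, H, φ, hν, hH, hφ⟩

end K909.NefGrowth
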