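import Groth.Agent.Vanish.K909.AltFinal
import Groth.Agent.Resolve.K284.NodeB

/-!
# (ALT): the asymptotic Lefschetz trick interface is a theorem

`K909.AltThm.alt k : K909.AltInterface.Alt k` for `k` algebraically closed of characteristic zero,
from separation of sections (`K284.NodeB.nodeB`).
-/

set_option autoImplicit false
universe u

open K909.AltInterface K660.AltE

namespace K909.AltThm

theorem alt (k : Type u) [Field k] [IsAlgClosed k] [CharZero k] : K909.AltInterface.Alt k :=
  K909.AltFinal.alt k (K284.NodeB.nodeB k)

theorem altDim (k : Type u) [Field k] [IsAlgClosed k] [CharZero k] (n : ℕ) :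
    AltDim k n :=
  K909.AltFinal.altDim_all k (K284.NodeB.nodeB k) n

end K909.AltThm
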