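import Groth.Agent.Vanish.K909.SplitSec
import Groth.Agent.Resolve.K588.Step
import Groth.Agent.Resolve.K588.Base
import Groth.Agent.CalgB.AmpleProj
import Groth.Agent.Sga5.ProjSmooth
import Groth.Agent.Vanish.K660.NcdRefine
import Groth.Agent.AbSch.K451.ProjFib
import Groth.Agent.S10829

/-!
# Alterations of `ℙⁿ⁺¹` from alterations of varieties of dimension `n` and separation of sections
-/

set_option autoImplicit false
universe u
open CategoryTheory CategoryTheory.Limits AlgebraicGeometry TopologicalSpace Topology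
open Groth.Agent Groth.Agent.VarietyB K84.Iface K909.AltInterface

namespace K909.AltD

theorem isPullback_map {S B Y C : Scheme.{u}} (b : B ⟶ S) (c : C ⟶ S) (h : Y ⟶ B) :
    IsPullback (pullback.map (h ≫ b) c b c h (𝟙 C) (𝟙 _) (by simp) (by simp)) (pullback.fst (h ≫ b) c)
      (pullback.fst b c) h := by
  refine (IsPullback.of_right (h₁₂ := pullback.snd b c) (v₁₃ := c) (h₂₂ := b) ?_ (pullback.lift_fst _ _ _)
      (IsPullback.of_hasPullback b c).flip)
  rw [pullback.map, pullback.lift_snd, Category.comp_id]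
  exact (IsPullback.of_hasPullback (h ≫ b) c).flip

theorem isHProjective_toSpec (k : Type u) [Field k] (n : ℕ) :
    RelProj.IsHProjective (CohB1.ProjSpace.toSpec n k) := by
  have : IsProper (CohB1.ProjSpace.toSpec n k) := Dix.ProjProper.isProper_toSpec n k
  exact (K588.HProj.iff_ample _).2 ⟨this, CalgB.AmpleProj.exists_isAmple_projSpace n k⟩

theorem ne_univ_iff {X : Type*} [TopologicalSpace X] [QuasiSober X] [IrreducibleSpace X] {Z : Set X}
    (hZ : IsClosed Z) : Z ≠ Set.univ ↔ genericPoint X ∉ Z := by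
  constructor
  · intro h h1
    apply h
    rw [← Set.univ_subset_iff, ← genericPoint_closure]
    exact hZ.closure_subset_iff.2 (by rintro _ rfl; exact h1)
  · rintro h rfl
    exact h trivial

/-- (ALT) descends along proper surjective morphisms of the same dimension. -/
theorem altFor_of_surjective {k : Type u} [Field k] {X' X : Scheme.{u}} (f : X ⟶ Spec (CommRingCat.of k))
    (g : X' ⟶ X) [IsProper g] [Surjective g] (hdim : topologicalKrullDim X' = topologicalKrullDim X)
    (h : AltFor (g ≫ f)) : AltFor f := by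
  intro Z hZ hZ'
  have hZg : g ⁻¹' Z ≠ Set.univ := by
    intro hu
    apply hZ'
    rw [← Set.univ_subset_iff]
    intro z _
    obtain ⟨p, rfl⟩ := g.surjective z
    have : p ∈ g ⁻¹' Z := hu ▸ Set.mem_univ p
    exact this
  obtain ⟨X₁, π, A₁, r, D, h1, h2, h3, h4, h5, h6, h7, h8, h9⟩ := h (g ⁻¹' Z) (hZ.preimage g.continuous) hZg
  refine ⟨X₁, π ≫ g, A₁, r, D, h1, by rw [Category.assoc]; exact h2, inferInstance, inferInstance,
    h5.trans hdim, h6, by rw [Category.assoc]; exact h7, h8, fun x hx => h9 x ?_⟩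
  rw [Scheme.Hom.comp_apply] at hx
  exact hx

/-- the dimension of a birational modification -/
theorem dim_eq_of_isBir {k : Type u} [Field k] {X' X : Scheme.{u}} [IsIntegral X'] [IsIntegral X]
    (f : X ⟶ Spec (CommRingCat.of k)) [LocallyOfFiniteType f] (g : X' ⟶ X) [LocallyOfFiniteType (g ≫ f)]
    (hg : IsBir g) : topologicalKrullDim X' = topologicalKrullDim X := by
  obtain ⟨V, hV, hiso⟩ := hg
  obtain ⟨x, hx⟩ := K588.Bir.exists_of_isIso_restrict g hiso hV.some_mem
  have hne : Nonempty V := ⟨⟨_, hV.some_mem⟩⟩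
  have hne' : Nonempty (g ⁻¹ᵁ V) := ⟨⟨x, by change g x ∈ V; rw [hx]; exact hV.some_mem⟩⟩
  rw [← CycA.ProdDim.dim_of_isOpenImmersion f V.ι, ← CycA.ProdDim.dim_of_isOpenImmersion (g ≫ f) (g ⁻¹ᵁ V).ι]
  exact IsHomeomorph.topologicalKrullDim_eq _ (Scheme.homeoOfIso (asIso (g ∣_ V))).isHomeomorph

theorem altFor_prod (k : Type u) [Field k] (n : ℕ) (hNB : NodeB k) (hAlt : AltDim k n) {B C : Scheme.{u}}
    (b : B ⟶ Spec (CommRingCat.of k)) (c : C ⟶ Spec (CommRingCat.of k)) [IsIntegral B] [IsIntegral C]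
    (hb : RelProj.IsHProjective b) (hc : RelProj.IsHProjective c) [GeometricallyIntegral c]
    [SmoothOfRelativeDimension 1 c] (hB : topologicalKrullDim B = n) (hC : topologicalKrullDim C = 1) :
    AltFor (pullback.fst b c ≫ b) := by
  intro Z hZ hZ'
  have hbp : IsProper b := K588.HProj.isProper hb
  have hcp : IsProper c := K588.HProj.isProper hc
  have hcs : Smooth c := SmoothOfRelativeDimension.smooth 1 c
  obtain ⟨Y, h, N, τ, hτ, W, hY, hYp, hs, hp, hdimY, hτinj, hW, hW', hsplit⟩ :=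
    SplitSec.exists_split b c hb hc hC Z hZ hZ'
  have hYpr : IsProper (h ≫ b) := K588.HProj.isProper hYp
  -- the family over `Y`
  let Q : Scheme.{u} := pullback (h ≫ b) c
  let q : Q ⟶ Y := pullback.fst (h ≫ b) c
  let g : Q ⟶ pullback b c := pullback.map (h ≫ b) c b c h (𝟙 C) (𝟙 _) (by simp) (by simp)
  have hg : IsPullback g q (pullback.fst b c) h := isPullback_map b c h
  let s : Fin N → (Y ⟶ Q) := fun i =>
    pullback.lift (f := h ≫ b) (g := c) (𝟙 Y) (τ i) (by rw [hτ, Category.id_comp])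
  have hs1 : ∀ i, s i ≫ q = 𝟙 Y := fun i => pullback.lift_fst _ _ _
  have hsinj : Function.Injective s := by
    intro i j hij
    apply hτinj
    have h1 : s i ≫ pullback.snd (h ≫ b) c = s j ≫ pullback.snd (h ≫ b) c := by rw [hij]
    have h2 : ∀ i, s i ≫ pullback.snd (h ≫ b) c = τ i := fun i => pullback.lift_snd _ _ _
    rwa [h2, h2] at h1
  let J : Type := {ij : Fin N × Fin N // ij.1 ≠ ij.2}
  let ZY : Set Y := ⋃ ij : J, (s ij.1.1) ⁻¹' (Set.range (s ij.1.2))
  have hZY : IsClosed ZY := isClosed_iUnion_of_finite fun ij => K588.StepAux.isClosed_preimage_range q (hs1 _)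
  have hZY' : ZY ≠ Set.univ := K588.Step.iUnion_ne_univ _
    (fun ij => K588.StepAux.isClosed_preimage_range q (hs1 _))
    (fun ij => K588.StepAux.preimage_range_ne_univ q (hs1 _) (hs1 _) fun h => ij.2 (hsinj h))
  have hWZ : W ∪ ZY ≠ Set.univ := by
    rw [ne_univ_iff (hW.union hZY), Set.mem_union, not_or]
    exact ⟨(ne_univ_iff hW).1 hW', (ne_univ_iff hZY).1 hZY'⟩
  obtain ⟨-, A, hA⟩ := (K588.HProj.iff_ample (h ≫ b)).1 hYp
  obtain ⟨Y₂, π, A₂, r, D, hY₂, hY₂sm, hπ, hπs, hdimY₂, hA₂, hD, -, hcov⟩ :=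
    hAlt Y (h ≫ b) A hA (hdimY.trans hB) (W ∪ ZY) (hW.union hZY) hWZ
  have hY₂p : RelProj.IsHProjective (π ≫ h ≫ b) := (K588.HProj.iff_ample _).2 ⟨inferInstance, A₂, hA₂⟩
  have hY₂n : IsLocallyNoetherian Y₂ := LocallyOfFiniteType.isLocallyNoetherian (π ≫ h ≫ b)
  -- the family over `Y₂`
  let P : Scheme.{u} := pullback (π ≫ h ≫ b) c
  let q' : P ⟶ Y₂ := pullback.fst (π ≫ h ≫ b) c
  let pr : P ⟶ Q := pullback.map (π ≫ h ≫ b) c (h ≫ b) c π (𝟙 C) (𝟙 _) (by simp) (by simp)
  have hpb : IsPullback pr q' q π := isPullback_map (h ≫ b) c π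
  have hPint : IsIntegral P := inferInstance
  have hq'sm : SmoothOfRelativeDimension 1 q' := by
    have := smoothOfRelativeDimension_isStableUnderBaseChange 1
    exact MorphismProperty.of_isPullback (P := @SmoothOfRelativeDimension 1)
      (IsPullback.of_hasPullback (π ≫ h ≫ b) c).flip ‹SmoothOfRelativeDimension 1 c›
  have hq'proj : RelProj.IsHProjective q' :=
    K386.HQP.isHProjective_of_isPullback (IsPullback.of_hasPullback (π ≫ h ≫ b) c).flip hc
  let s' : Fin N → (Y₂ ⟶ P) := fun i => hpb.lift (π ≫ s i) (𝟙 Y₂) (by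
    rw [Category.assoc, hs1, Category.comp_id, Category.id_comp])
  have hs'1 : ∀ j, s' j ≫ pr = π ≫ s j := fun j => hpb.lift_fst _ _ _
  have hs'2 : ∀ j, s' j ≫ q' = 𝟙 Y₂ := fun j => hpb.lift_snd _ _ _
  obtain ⟨P₁, β, r', D', hP₁int, hP₁proj, hβbir, hP₁sm, hD'ncd, hD'cov⟩ :=
    hNB Y₂ P (π ≫ h ≫ b) q' hY₂ hPint hY₂p hY₂sm hq'sm hq'proj r D hD N s' hs'2 (by
      intro i j hij x hx
      obtain ⟨x', hx'⟩ := hx
      have h1 : x' = x := by
        have h2 : q' (s' j x') = q' (s' i x) := by rw [hx']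
        have e1 : ∀ j (z : Y₂), q' (s' j z) = z := fun j z => by
          rw [← Scheme.Hom.comp_apply, hs'2]
          rfl
        rwa [e1, e1] at h2
      subst h1
      have e2 : ∀ j (z : Y₂), pr (s' j z) = s j (π z) := fun j z => by
        rw [← Scheme.Hom.comp_apply, hs'1, Scheme.Hom.comp_apply]
      have h3 : π x' ∈ W ∪ ZY := Or.inr (Set.mem_iUnion.2 ⟨⟨(i, j), hij⟩, π x', by
        rw [← e2, ← e2, hx']⟩)
      obtain ⟨i₀, hi₀⟩ := hcov x' h3
      exact Set.mem_iUnion.2 ⟨i₀, hi₀⟩)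
  have hP₁pr : IsProper (β ≫ q' ≫ π ≫ h ≫ b) := K588.HProj.isProper hP₁proj
  let ρ : P₁ ⟶ pullback b c := β ≫ pr ≫ g
  have hρ : ρ ≫ pullback.fst b c ≫ b = β ≫ q' ≫ π ≫ h ≫ b := by
    simp only [ρ, Category.assoc]
    rw [reassoc_of% hg.w, reassoc_of% hpb.w]
  have hρp : IsProper ρ := by
    have : IsProper (ρ ≫ pullback.fst b c ≫ b) := by rw [hρ]; exact hP₁pr
    exact IsProper.of_comp ρ (pullback.fst b c ≫ b)
  have hβp : IsProper β := IsProper.of_comp β (q' ≫ π ≫ h ≫ b)
  have hβs : Surjective β := K660.AltE.surjective_of_isClosedMap β β.isClosedMap (K588.Bir.map_genericPoint hβbir)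
  have hprs : Surjective pr := MorphismProperty.of_isPullback (P := @Surjective) hpb.flip hπs
  have hgs : Surjective g := MorphismProperty.of_isPullback (P := @Surjective) hg.flip hs
  have hρs : Surjective ρ := inferInstance
  have hBn : IsLocallyNoetherian B := LocallyOfFiniteType.isLocallyNoetherian b
  have hTint : IsIntegral (pullback b c) := inferInstance
  have hdim : topologicalKrullDim P₁ = topologicalKrullDim ↥(pullback b c) := by
    rw [dim_eq_of_isBir (q' ≫ π ≫ h ≫ b) β hβbir]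
    obtain ⟨n₁, m₁, e1, e2, e3⟩ := CycA.ProdDim.exists_dim_pullback (π ≫ h ≫ b) c
    obtain ⟨n₂, m₂, e4, e5, e6⟩ := CycA.ProdDim.exists_dim_pullback b c
    have e7 : (n₁ : WithBot ℕ∞) = n₂ := by rw [← e1, ← e4, hdimY₂, hdimY]
    have e8 : (m₁ : WithBot ℕ∞) = m₂ := by rw [← e2, ← e5]
    have e9 : n₁ = n₂ := by exact_mod_cast e7
    have e10 : m₁ = m₂ := by exact_mod_cast e8
    rw [e6]
    exact e3.trans (by rw [e9, e10])
  obtain ⟨-, A₁, hA₁⟩ := (K588.HProj.iff_ample _).1 hP₁proj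
  have hP₁c : CompactSpace P₁ := by
    have : QuasiCompact (β ≫ q' ≫ π ≫ h ≫ b) := inferInstance
    exact QuasiCompact.compactSpace_of_compactSpace (β ≫ q' ≫ π ≫ h ≫ b)
  obtain ⟨r₁, D₁, hD₁, hD₁int, hD₁supp⟩ := K660.NcdRefine.exists_refine (β ≫ q' ≫ π ≫ h ≫ b) D' hD'ncd
  refine ⟨P₁, ρ, A₁, r₁, D₁, hP₁int, by rw [hρ]; exact hP₁sm, hρp, hρs, hdim, hA₁,
    by rw [hρ]; exact hD₁, hD₁int, ?_⟩
  intro x hx
  rw [hD₁supp]
  have h1 : ρ x = g (pr (β x)) := by simp [ρ]
  rw [h1] at hx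
  have h2 : x ∈ β ⁻¹' (img s' ∪ q' ⁻¹' (supp D)) := by
    rcases hsplit (pr (β x)) hx with h3 | ⟨i, h3⟩
    · right
      have h4 : q (pr (β x)) = π (q' (β x)) := by
        rw [← Scheme.Hom.comp_apply, hpb.w, Scheme.Hom.comp_apply]
      have h5 : π (q' (β x)) ∈ W ∪ ZY := by
        rw [← h4]
        exact Or.inl h3
      obtain ⟨i₀, hi₀⟩ := hcov _ h5
      exact Set.mem_iUnion.2 ⟨i₀, hi₀⟩
    · left
      exact Set.mem_iUnion.2 ⟨i, K588.StepAux.mem_range_section hpb (hs1 i) (hs'2 i) (hs'1 i) h3⟩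
  exact Set.mem_iUnion.1 (hD'cov h2)

/-- Step (D). -/
theorem altPn_succ (k : Type u) [Field k] [Infinite k] (n : ℕ) (hNB : NodeB k) (hAlt : AltDim k n) :
    AltPn k (n + 1) := by
  have i1 : IsIntegral (CohB1.ProjSpace n k) := Lefpen.H717.ProjIrr.isIntegral_projSpace n k
  have i2 : IsIntegral (CohB1.ProjSpace 1 k) := Lefpen.H717.ProjIrr.isIntegral_projSpace 1 k
  let b := CohB1.ProjSpace.toSpec n k
  let c := CohB1.ProjSpace.toSpec 1 k
  have hb : RelProj.IsHProjective b := isHProjective_toSpec k n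
  have hc : RelProj.IsHProjective c := isHProjective_toSpec k 1
  have hbp : IsProper b := K588.HProj.isProper hb
  have hcp : IsProper c := K588.HProj.isProper hc
  have hcs : SmoothOfRelativeDimension 1 c := Sga5.ProjSmooth.smooth_toSpec 1 k
  have hcs' : Smooth c := SmoothOfRelativeDimension.smooth 1 c
  have hcg : GeometricallyIntegral c := K451.ProjFib.geometricallyIntegral_projSpace 1 k
  have hAlt' := altFor_prod k n hNB hAlt b c hb hc (S10829.result k n) (S10829.result k 1)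
  have hfst : RelProj.IsHProjective (pullback.fst b c) :=
    K386.HQP.isHProjective_of_isPullback (IsPullback.of_hasPullback b c).flip hc
  have hT : RelProj.IsHProjective (pullback.fst b c ≫ b) := S9692.result _ _ hfst hb
  have hTp : IsProper (pullback.fst b c ≫ b) := K588.HProj.isProper hT
  have hBn : IsLocallyNoetherian (CohB1.ProjSpace n k) := LocallyOfFiniteType.isLocallyNoetherian b
  have hTint : IsIntegral (pullback b c) := inferInstance
  obtain ⟨-, A, hA⟩ := (K588.HProj.iff_ample _).1 hT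
  obtain ⟨d, e, he, hef⟩ := CalgB.ProjField.exists_closedImmersion_projSpace (pullback.fst b c ≫ b) ⟨A, hA⟩
  have hdimT : topologicalKrullDim ↥(pullback b c) = ((n + 1 : ℕ) : WithBot ℕ∞) := by
    obtain ⟨n₂, m₂, e4, e5, e6⟩ := CycA.ProdDim.exists_dim_pullback b c
    rw [S10829.result k n] at e4
    rw [S10829.result k 1] at e5
    have e7 : n = n₂ := by exact_mod_cast e4
    have e8 : 1 = m₂ := by exact_mod_cast e5
    rw [e6, e7, e8]
  obtain ⟨g, hg, hg1, hg2⟩ := K426.LinProj.exists_finite_surjective k (pullback b c) d e (n + 1) hdimT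
  have hgf : g ≫ CohB1.ProjSpace.toSpec (n + 1) k = pullback.fst b c ≫ b := hg.trans hef
  refine altFor_of_surjective _ g ?_ ?_
  · rw [hdimT, S10829.result]
  · rw [hgf]
    exact hAlt'

theorem altPn_zero (k : Type u) [Field k] : AltPn k 0 := by
  intro Z hZ hZ'
  have i1 : IsIntegral (CohB1.ProjSpace 0 k) := Lefpen.H717.ProjIrr.isIntegral_projSpace 0 k
  have hb : RelProj.IsHProjective (CohB1.ProjSpace.toSpec 0 k) := isHProjective_toSpec k 0
  have hbp : IsProper (CohB1.ProjSpace.toSpec 0 k) := K588.HProj.isProper hb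
  have hbs : SmoothOfRelativeDimension 0 (CohB1.ProjSpace.toSpec 0 k) := Sga5.ProjSmooth.smooth_toSpec 0 k
  have hbs' : Smooth (CohB1.ProjSpace.toSpec 0 k) := SmoothOfRelativeDimension.smooth 0 _
  have hn : IsLocallyNoetherian (CohB1.ProjSpace 0 k) :=
    LocallyOfFiniteType.isLocallyNoetherian (CohB1.ProjSpace.toSpec 0 k)
  have hsub : Subsingleton (CohB1.ProjSpace 0 k) :=
    K588.Base.subsingleton_of_dim (by rw [S10829.result]; simp)
  obtain ⟨-, A, hA⟩ := (K588.HProj.iff_ample _).1 hb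
  refine ⟨CohB1.ProjSpace 0 k, 𝟙 _, A, 0, Fin.elim0, i1, ?_, inferInstance, inferInstance, rfl, hA, ?_, ?_, ?_⟩
  · rw [Category.id_comp]; exact hbs'
  · rintro x ⟨⟨i, -⟩⟩
    exact i.elim0
  · intro i
    exact i.elim0
  · intro x hx
    exfalso
    apply hZ'
    ext y
    have : y = x := Subsingleton.elim _ _
    subst this
    simpa using hx

end K909.AltD
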