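import Groth.Agent.Vanish.K909.Fujita
import Groth.Agent.S1528
import Groth.Agent.S1526
import Groth.Agent.S2327
import Groth.Agent.Fga.DimLt
import Mathlib.Algebra.MvPolynomial.Degrees

/-!
# Growth of the cohomology of `F ⊗ L^ν`

`L` such that `H^i(X, F ⊗ L^ν ⊗ H^p) = 0` uniformly in `ν` (`p ≥ p₀(F)`, `i ≥ 1`) for all coherent `F`: then
`dim H^b(X, F ⊗ L^ν) ≤ c ν^{r - b}` for `dim Supp F ≤ r`.
-/

set_option autoImplicit false
universe u
open CategoryTheory CategoryTheory.Limits AlgebraicGeometry Opposite TopologicalSpace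

namespace K909.GrowthNef

open Groth.Agent Groth.Agent.Ega2 Groth.Agent.Fdesc.LocGen Groth.Agent.Fga.PicMon Groth.Agent.CohqB.SerTw
open Groth.Agent.VarietyA.EulerLES Groth.Agent.Pic13.H946 Groth.Agent.Pic13.H946.CoreGood Groth.Agent.Fga.RegSec
open K909.Fujita

theorem eval_bound (P : MvPolynomial (Fin 1) ℚ) (r : ℕ) (hP : P.totalDegree ≤ r) :
    ∃ C : ℕ, ∀ ν : ℕ, 1 ≤ ν → |MvPolynomial.eval (fun _ => (ν : ℚ)) P| ≤ C * (ν : ℚ) ^ r := by
  obtain ⟨C, hC⟩ := exists_nat_ge (∑ m ∈ P.support, |P.coeff m|)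
  refine ⟨C, fun ν hν => ?_⟩
  have hν' : (1 : ℚ) ≤ ν := by exact_mod_cast hν
  rw [MvPolynomial.eval_eq']
  calc |∑ m ∈ P.support, P.coeff m * ∏ i, (ν : ℚ) ^ m i|
      ≤ ∑ m ∈ P.support, |P.coeff m * ∏ i, (ν : ℚ) ^ m i| := Finset.abs_sum_le_sum_abs _ _
    _ ≤ ∑ m ∈ P.support, |P.coeff m| * (ν : ℚ) ^ r := by
        refine Finset.sum_le_sum fun m hm => ?_
        rw [abs_mul]
        refine mul_le_mul_of_nonneg_left ?_ (abs_nonneg _)
        rw [Fin.prod_univ_one, abs_of_nonneg (by positivity)]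
        refine pow_le_pow_right₀ hν' ?_
        have h1 := MvPolynomial.le_totalDegree hm
        rw [Finsupp.sum_fintype _ _ (fun _ => rfl), Fin.sum_univ_one] at h1
        exact h1.trans hP
    _ = (∑ m ∈ P.support, |P.coeff m|) * (ν : ℚ) ^ r := (Finset.sum_mul _ _ _).symm
    _ ≤ C * (ν : ℚ) ^ r := mul_le_mul_of_nonneg_right hC (by positivity)

variable (k : Type u) [Field k] {X : Scheme.{u}} [X.Over (Spec (CommRingCat.of k))]
  [IsProper (X ↘ Spec (CommRingCat.of k))]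

/-- `|χ(F ⊗ L^ν)| ≤ C ν^r`. -/
theorem chi_bound {L : X.Modules} (hL : PicF.IsInvertible L) {F : X.Modules} (hF : Coh.IsCoh F) (r : ℕ)
    (hr : topologicalKrullDim (CohB1.support F) ≤ r) :
    ∃ C : ℕ, ∀ ν : ℕ, 1 ≤ ν → |Curv2.euler k X (CohB1.tensorMod F (CohB1.tensorPow L ν))| ≤ (C : ℤ) * (ν : ℤ) ^ r := by
  obtain ⟨P, hP, hP'⟩ := S1528.result k X F hF r hr 1 (fun _ => L) (fun _ => hL)
  obtain ⟨C, hC⟩ := eval_bound P r hP
  refine ⟨C, fun ν hν => ?_⟩
  have h1 := hP' (fun _ => ν)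
  have h2 := hC ν hν
  rw [← h1] at h2
  have h3 : Curv2.euler k X (Curv2.tensorPows F 1 (fun _ => L) (fun _ => ν)) =
      Curv2.euler k X (CohB1.tensorMod F (CohB1.tensorPow L ν)) := rfl
  rw [h3] at h2
  exact_mod_cast h2

theorem finrank_le_of_surj {A B : X.Modules} {a b : ℕ} (hA : Coh.IsCoh A)
    (f : Coh.HH X A a →ₗ[k] Coh.HH X B b) (hf : Function.Surjective f) :
    Module.finrank k (Coh.HH X B b) ≤ Module.finrank k (Coh.HH X A a) := by
  have := finite_hh (k := k) hA a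
  exact LinearMap.finrank_le_finrank_of_surjective hf

/-- `h^0 ≤ |χ| + ∑_{i ≥ 1} h^i`. -/
theorem h0_le (d : ℕ) (hd : topologicalKrullDim X ≤ d) (G : X.Modules) :
    (Module.finrank k (Coh.HH X G 0) : ℤ) ≤ |Curv2.euler k X G| +
      ∑ i ∈ Finset.range d, (Module.finrank k (Coh.HH X G (i + 1)) : ℤ) := by
  rw [← Fga.IntAdd.eulerCharLE_eq k X d hd G]
  unfold FGA.eulerCharLE
  rw [Finset.sum_range_succ']
  simp only [pow_zero, one_mul]
  set s := ∑ i ∈ Finset.range d, (-1 : ℤ) ^ (i + 1) * (Module.finrank k (Coh.HH X G (i + 1)) : ℤ) with hs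
  have h1 : -s ≤ ∑ i ∈ Finset.range d, (Module.finrank k (Coh.HH X G (i + 1)) : ℤ) := by
    rw [hs, ← Finset.sum_neg_distrib]
    refine Finset.sum_le_sum fun i _ => ?_
    rcases neg_one_pow_eq_or ℤ (i + 1) with h | h <;> rw [h] <;> simp
  have h2 := le_abs_self (s + (Module.finrank k (Coh.HH X G 0) : ℤ))
  linarith

/-- **Growth theorem.** -/
theorem growth {L H : X.Modules} (hL : PicF.IsInvertible L) (hH : CohB1.IsAmple H)
    (hvan : ∀ F : X.Modules, Coh.IsCoh F → VanGe (fun N => ∃ ν : ℕ, N = CohB1.tensorPow L ν) H F 1) (r : ℕ) :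
    ∀ F : X.Modules, Coh.IsCoh F → topologicalKrullDim (CohB1.support F) ≤ r → ∀ b : ℕ,
      ∃ c : ℕ, ∀ ν : ℕ, 1 ≤ ν →
        Module.finrank k (Coh.HH X (CohB1.tensorMod F (CohB1.tensorPow L ν)) b) ≤ c * ν ^ (r - b) := by
  have hNoeth : IsNoetherian X := VarietyA.TwistExist.isNoetherian k X
  have hsep : X.IsSeparated := Fga.HypSec.isSeparated k X
  obtain ⟨d, hd⟩ := EtpbcA.CdFinDim.exists_dim_le (X ↘ Spec (CommRingCat.of k))
  -- the case `b = 0` from the case `b ≥ 1`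
  have hzero : ∀ r : ℕ, ∀ F : X.Modules, Coh.IsCoh F → topologicalKrullDim (CohB1.support F) ≤ r →
      (∀ b : ℕ, 1 ≤ b → ∃ c : ℕ, ∀ ν : ℕ, 1 ≤ ν →
        Module.finrank k (Coh.HH X (CohB1.tensorMod F (CohB1.tensorPow L ν)) b) ≤ c * ν ^ (r - b)) →
      ∃ c : ℕ, ∀ ν : ℕ, 1 ≤ ν →
        Module.finrank k (Coh.HH X (CohB1.tensorMod F (CohB1.tensorPow L ν)) 0) ≤ c * ν ^ (r - 0) := by
    intro r F hF hr h
    obtain ⟨C, hC⟩ := chi_bound k hL hF r hr
    choose! c hc using h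
    refine ⟨C + ∑ i ∈ Finset.range d, c (i + 1), fun ν hν => ?_⟩
    have h1 := h0_le k d hd (CohB1.tensorMod F (CohB1.tensorPow L ν))
    have h2 := hC ν hν
    have h3 : ∑ i ∈ Finset.range d, (Module.finrank k (Coh.HH X (CohB1.tensorMod F (CohB1.tensorPow L ν)) (i + 1)) : ℤ)
        ≤ (∑ i ∈ Finset.range d, (c (i + 1) : ℤ)) * (ν : ℤ) ^ r := by
      rw [Finset.sum_mul]
      refine Finset.sum_le_sum fun i _ => ?_
      have h4 := hc (i + 1) (by omega) ν hν
      have h5 : ν ^ (r - (i + 1)) ≤ ν ^ r := Nat.pow_le_pow_right (by omega) (by omega)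
      exact_mod_cast h4.trans (Nat.mul_le_mul_left _ h5)
    have h6 : (Module.finrank k (Coh.HH X (CohB1.tensorMod F (CohB1.tensorPow L ν)) 0) : ℤ) ≤
        ((C + ∑ i ∈ Finset.range d, c (i + 1) : ℕ) : ℤ) * (ν : ℤ) ^ r := by
      push_cast
      rw [add_mul]
      linarith
    rw [Nat.sub_zero]
    exact_mod_cast h6
  induction r with
  | zero =>
    intro F hF hr b
    have hpos : ∀ b : ℕ, 1 ≤ b → ∃ c : ℕ, ∀ ν : ℕ, 1 ≤ ν →
        Module.finrank k (Coh.HH X (CohB1.tensorMod F (CohB1.tensorPow L ν)) b) ≤ c * ν ^ (0 - b) := by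
      intro b hb
      refine ⟨0, fun ν hν => ?_⟩
      have hcoh : Coh.IsCoh (CohB1.tensorMod F (CohB1.tensorPow L ν)) :=
        Fga.TwistCoh.isCoh_tensor hF (isInvertible_tensorPow hL ν)
      have hsub : CohB1.support (CohB1.tensorMod F (CohB1.tensorPow L ν)) ⊆ CohB1.support F :=
        Fga.TwistCoh.support_tensor_subset (isInvertible_tensorPow hL ν)
      have := S1526.result k X _ hcoh ((Fga.DimLt.topologicalKrullDim_mono hsub).trans hr) b hb
      rw [Module.finrank_zero_of_subsingleton]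
      exact Nat.zero_le _
    rcases Nat.eq_zero_or_pos b with rfl | hb
    · exact hzero 0 F hF hr hpos
    · exact hpos b hb
  | succ r ih =>
    intro F hF hr b
    have hpos : ∀ b : ℕ, 1 ≤ b → ∃ c : ℕ, ∀ ν : ℕ, 1 ≤ ν →
        Module.finrank k (Coh.HH X (CohB1.tensorMod F (CohB1.tensorPow L ν)) b) ≤ c * ν ^ (r + 1 - b) := by
      intro b hb
      rcases lt_or_eq_of_le hr with hlt | heq
      · obtain ⟨c, hc⟩ := ih F hF (by
          rw [Nat.cast_add, Nat.cast_one, ENat.WithBot.lt_add_one_iff] at hlt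
          exact hlt) b
        refine ⟨c, fun ν hν => (hc ν hν).trans (Nat.mul_le_mul_left _ (Nat.pow_le_pow_right (by omega) (by omega)))⟩
      · obtain ⟨p₀, hp₀⟩ := hvan F hF
        have hHp : CohB1.IsAmple (CohB1.tensorPow H (p₀ + 1)) :=
          (S2327.result X H hH.1 (p₀ + 1) (Nat.succ_pos _)).mp hH
        obtain ⟨n, s, hmono, hdim⟩ := Fga.HypSec.exists_cut k X _ hHp F hF r heq
        generalize hM : CohB1.tensorPow (CohB1.tensorPow H (p₀ + 1)) (n + 1) = M at *
        have hMinv : PicF.IsInvertible M := by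
          rw [← hM]; exact isInvertible_tensorPow (isInvertible_tensorPow hH.1 _) _
        have hMcl : mc M = mc H ^ ((p₀ + 1) * (n + 1)) := by
          rw [← hM, mc_tensorPow, mc_tensorPow, pow_mul]
        have hMF : Coh.IsCoh (CohB1.tensorMod M F) :=
          Sga67.CohBasic.isCoh_of_iso (Ega2.Tens.swap F _) (Fga.TwistCoh.isCoh_tensor hF hMinv)
        have hC : Coh.IsCoh (cokernel (mulS s F)) := Sga67.CohBasic.isCoh_cokernel _ hF.1 hMF
        have hS : (ShortComplex.mk (mulS s F) (cokernel.π (mulS s F)) (cokernel.condition _)).ShortExact :=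
          { exact := ShortComplex.exact_cokernel _
            mono_f := hmono
            epi_g := inferInstanceAs (Epi (cokernel.π (mulS s F))) }
        obtain ⟨c, hc⟩ := ih _ hC hdim.le (b - 1)
        refine ⟨c, fun ν hν => ?_⟩
        have hLν := isInvertible_tensorPow hL ν
        have hS' := shortExact_tw hLν hS
        have h1 : Subsingleton (Coh.HH X (CohB1.tensorMod (CohB1.tensorMod M F) (CohB1.tensorPow L ν)) b) := by
          refine hh_congr ?_ (hp₀ (CohB1.tensorPow L ν) hLν ⟨ν, rfl⟩ ((p₀ + 1) * (n + 1)) (by nlinarith) b hb)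
          simp only [mc_tensor, hMcl, mc_tensorPow]
          ac_rfl
        have hsurj : Function.Surjective (deltaA k (ShortComplex.map (ShortComplex.mk (mulS s F)
            (cokernel.π (mulS s F)) (cokernel.condition _)) (tw (CohB1.tensorPow L ν))) hS' (b - 1) b (by omega)) := by
          intro y
          exact (exactA₁ k _ hS' (b - 1) b (by omega) y).mp
            (Subsingleton.elim (α := Coh.HH X (CohB1.tensorMod (CohB1.tensorMod M F) (CohB1.tensorPow L ν)) b) _ _)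
        have h2 := finrank_le_of_surj k (A := CohB1.tensorMod (cokernel (mulS s F)) (CohB1.tensorPow L ν))
          (B := CohB1.tensorMod F (CohB1.tensorPow L ν)) (Fga.TwistCoh.isCoh_tensor hC hLν) _ hsurj
        refine h2.trans ((hc ν hν).trans (le_of_eq ?_))
        rw [show r - (b - 1) = r + 1 - b by omega]
    rcases Nat.eq_zero_or_pos b with rfl | hb
    · exact hzero (r + 1) F hF hr hpos
    · exact hpos b hb

end K909.GrowthNef
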