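import Groth.Agent.Vanish.K909.InterML
import Groth.Agent.Vanish.K909.GrowthNef

/-!
# Growth of `χ(F ⊗ L^m)` when `(L^n · F) > 0`
-/

set_option autoImplicit false
universe u
open CategoryTheory CategoryTheory.Limits AlgebraicGeometry

namespace K909.ChiGrow

/-- Summation raises the order of growth by one. -/
theorem grow (g f : ℕ → ℤ) (j : ℕ) (hg : ∃ c : ℚ, 0 < c ∧ ∃ m₀ : ℕ, ∀ m, m₀ ≤ m → c * (m : ℚ) ^ j ≤ g m)
    (hs : ∀ m, f (m + 1) = f m + g (m + 1)) :
    ∃ c : ℚ, 0 < c ∧ ∃ m₀ : ℕ, ∀ m, m₀ ≤ m → c * (m : ℚ) ^ (j + 1) ≤ f m := by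
  obtain ⟨c, hc, m₀, h⟩ := hg
  -- lower bound for the increments
  have hinc : ∀ (t s : ℕ), m₀ ≤ t → (f t : ℚ) + s * (c * (t : ℚ) ^ j) ≤ f (t + s) := by
    intro t s ht
    induction s with
    | zero => simp
    | succ s ih =>
      have h1 : (f (t + (s + 1)) : ℚ) = f (t + s) + g (t + s + 1) := by
        have := hs (t + s)
        rw [← add_assoc, this]
        push_cast
        ring
      have h2 := h (t + s + 1) (by omega)
      have h3 : c * (t : ℚ) ^ j ≤ c * ((t + s + 1 : ℕ) : ℚ) ^ j := by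
        refine mul_le_mul_of_nonneg_left (pow_le_pow_left₀ (by positivity) ?_ j) hc.le
        push_cast
        linarith [(Nat.cast_nonneg s : (0 : ℚ) ≤ s)]
      rw [h1]
      push_cast
      push_cast at h2 h3
      linarith
  have hfm : ∀ t, m₀ ≤ t → (f m₀ : ℚ) ≤ f t := by
    intro t ht
    obtain ⟨s, rfl⟩ := Nat.exists_eq_add_of_le ht
    have h1 := hinc m₀ s le_rfl
    have h2 : 0 ≤ (s : ℚ) * (c * (m₀ : ℚ) ^ j) := by positivity
    linarith
  obtain ⟨K, hK⟩ := exists_nat_ge (|(f m₀ : ℚ)| * 4 ^ (j + 1) * 2 / c)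
  refine ⟨c / 4 ^ (j + 1) / 2, by positivity, 2 * (m₀ + 1) + K + 2, fun m hm => ?_⟩
  set t := m / 2 with ht
  have ht1 : m₀ ≤ t := by omega
  have ht2 : t + (m - t) = m := by omega
  have h1 := hinc t (m - t) ht1
  rw [ht2] at h1
  have h2 := hfm t ht1
  have hmq : (0 : ℚ) ≤ m := Nat.cast_nonneg m
  have h3 : (m : ℚ) / 4 ≤ t := by
    have : m ≤ 4 * t := by omega
    have : (m : ℚ) ≤ 4 * t := by exact_mod_cast this
    linarith
  have h4 : (m : ℚ) / 4 ≤ ((m - t : ℕ) : ℚ) := by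
    have : m ≤ 4 * (m - t) := by omega
    have : (m : ℚ) ≤ 4 * ((m - t : ℕ) : ℚ) := by exact_mod_cast this
    linarith
  have h5 : (m : ℚ) / 4 * (c * ((m : ℚ) / 4) ^ j) ≤ ((m - t : ℕ) : ℚ) * (c * (t : ℚ) ^ j) := by
    refine mul_le_mul h4 (mul_le_mul_of_nonneg_left (pow_le_pow_left₀ (by positivity) h3 j) hc.le)
      (by positivity) (by positivity)
  have h6 : (m : ℚ) / 4 * (c * ((m : ℚ) / 4) ^ j) = c / 4 ^ (j + 1) * (m : ℚ) ^ (j + 1) := by
    rw [div_pow, pow_succ, pow_succ]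
    field_simp
  have h7 : |(f m₀ : ℚ)| ≤ c / 4 ^ (j + 1) / 2 * (m : ℚ) ^ (j + 1) := by
    have hm1 : (K : ℚ) ≤ (m : ℚ) ^ (j + 1) := by
      have h8 : (K : ℚ) ≤ m := by exact_mod_cast (by omega : K ≤ m)
      refine h8.trans (le_self_pow₀ ?_ (Nat.succ_ne_zero j))
      exact_mod_cast (by omega : 1 ≤ m)
    have h9 := hK.trans hm1
    rw [div_le_iff₀ hc] at h9
    rw [div_div, div_mul_eq_mul_div, le_div_iff₀ (by positivity)]
    linarith
  have h8 := neg_abs_le (f m₀ : ℚ)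
  have h9 : c / 4 ^ (j + 1) * (m : ℚ) ^ (j + 1) =
      c / 4 ^ (j + 1) / 2 * (m : ℚ) ^ (j + 1) + c / 4 ^ (j + 1) / 2 * (m : ℚ) ^ (j + 1) := by ring
  rw [h6, h9] at h5
  linarith

/-- Iteration. -/
theorem grow_iter (f : ℕ → ℕ → ℤ) (e : ℤ) (he : 0 < e) (n : ℕ) (h0 : ∀ m, f 0 m = e)
    (hs : ∀ j, j < n → ∀ m, f (j + 1) (m + 1) = f (j + 1) m + f j (m + 1)) :
    ∀ j, j ≤ n → ∃ c : ℚ, 0 < c ∧ ∃ m₀ : ℕ, ∀ m, m₀ ≤ m → c * (m : ℚ) ^ j ≤ f j m := by
  intro j
  induction j with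
  | zero =>
    intro _
    refine ⟨e, by exact_mod_cast he, 0, fun m _ => ?_⟩
    rw [h0, pow_zero, mul_one]
  | succ j ih =>
    intro hj
    exact grow (f j) (f (j + 1)) j (ih (by omega)) (hs j (by omega))

open Groth.Agent Groth.Agent.Fga.PicMon Groth.Agent.Fga.AltSum Groth.Agent.Grpsch.PicGrp K909.InterML
  Groth.Agent.Pic13.H970.IntForm

variable (k : Type u) [Field k] (X : Scheme.{u}) [X.Over (Spec (CommRingCat.of k))]
  [IsProper (X ↘ Spec (CommRingCat.of k))] (d : ℕ) (hd : topologicalKrullDim X ≤ d)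

/-- `m ↦ (1 - T_{L⁻¹})^i χ(F ⊗ L^m)`. -/
noncomputable def gi (F : X.Modules) (l u : MC X) (i m : ℕ) : ℤ :=
  dSum (fun x => chiCl k X d F (l ^ m * x)) (fun _ : Fin i => u)

omit [IsProper (X ↘ Spec (CommRingCat.of k))] in
theorem gi_succ (F : X.Modules) {l u : MC X} (h : l * u = 1) (i m : ℕ) :
    gi k X d F l u (i + 1) (m + 1) = gi k X d F l u i (m + 1) - gi k X d F l u i m := by
  unfold gi
  have e : (fun _ : Fin (i + 1) => u) = (Fin.cons u (fun _ : Fin i => u) : Fin (i + 1) → MC X) := by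
    funext j
    cases j using Fin.cases with
    | zero => rfl
    | succ j => rfl
  rw [e, dSum_cons]
  congr 1
  refine dSum_congr fun I => ?_
  congr 1
  rw [pow_succ, mul_assoc, ← mul_assoc l u, h, one_mul]

omit [IsProper (X ↘ Spec (CommRingCat.of k))] in
theorem gi_zero (F : X.Modules) (l u : MC X) (m : ℕ) : gi k X d F l u 0 m = chiCl k X d F (l ^ m) := by
  unfold gi
  rw [dSum_zero, mul_one]

include hd in
/-- `χ(F ⊗ L^m) ≥ c m^n` for large `m` if `(L^n · F) > 0`, `n = dim Supp F`. -/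
theorem chi_ge (F : X.Modules) (hF : Coh.IsCoh F) (n : ℕ) (hr : topologicalKrullDim (CohB1.support F) ≤ n)
    (L : X.Modules) (hL : PicF.IsInvertible L) (hpos : 0 < inter k X d F (fun _ : Fin n => mk L hL)) :
    ∃ c : ℚ, 0 < c ∧ ∃ m₀ : ℕ, ∀ m, m₀ ≤ m →
      c * (m : ℚ) ^ n ≤ Curv2.euler k X (CohB1.tensorMod F (CohB1.tensorPow L m)) := by
  have := Fga.IntAdd.isNoetherian k X
  set u := mc (dual L) with hu
  have hlu : mc L * u = 1 := by
    have := congrArg (toMC X) (show mk L hL * mk (dual L) (isInvertible_dual hL) = 1 by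
      rw [← inv_mk hL, mul_inv_cancel])
    rwa [map_mul, map_one] at this
  -- the top difference is constant
  have htop0 : gi k X d F (mc L) u n 0 = inter k X d F (fun _ : Fin n => mk L hL) := by
    rw [inter_mk k X d F (fun _ : Fin n => L) (fun _ => dual L) (fun _ => hL) (fun _ => isInvertible_dual hL)
      (fun _ => ⟨@asIso _ _ _ _ (ev L) (isIso_ev hL)⟩), intNum_eq_dSum]
    unfold gi
    simp only [pow_zero, one_mul]
    rfl
  have htop : ∀ m, gi k X d F (mc L) u (n + 1) (m + 1) = 0 := by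
    intro m
    have h1 : gi k X d F (mc L) u (n + 1) (m + 1) =
        FGA.intNum k X d (fun _ : Fin (n + 1) => dual L) (CohB1.tensorMod (CohB1.tensorPow L (m + 1)) F) := by
      rw [intNum_eq_dSum]
      unfold gi
      refine dSum_congr fun I => ?_
      rw [chiCl_tensor, mc_tensorPow]
    have hcoh : Coh.IsCoh (CohB1.tensorMod (CohB1.tensorPow L (m + 1)) F) :=
      Sga67.CohBasic.isCoh_of_iso (Ega2.Tens.swap F _)
        (Fga.TwistCoh.isCoh_tensor hF (Fdesc.LocGen.isInvertible_tensorPow hL _))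
    have hsub : CohB1.support (CohB1.tensorMod (CohB1.tensorPow L (m + 1)) F) ⊆ CohB1.support F := by
      rw [CohqB.DevSupport.support_congr (Ega2.Tens.swap (CohB1.tensorPow L (m + 1)) F)]
      exact Fga.TwistCoh.support_tensor_subset (Fdesc.LocGen.isInvertible_tensorPow hL _)
    rw [h1, intNum_eq k X d _ _ (fun _ => isInvertible_dual hL)]
    refine I_eq_zero k X d hd _ hcoh _ (lt_of_le_of_lt ((Fga.DimLt.topologicalKrullDim_mono hsub).trans hr) ?_)
    exact_mod_cast Nat.lt_succ_self n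
  have htopc : ∀ m, gi k X d F (mc L) u n m = inter k X d F (fun _ : Fin n => mk L hL) := by
    intro m
    induction m with
    | zero => exact htop0
    | succ m ih =>
      have h1 := gi_succ k X d F hlu n m
      rw [htop m] at h1
      rw [← ih]
      linarith
  have h := grow_iter (fun j m => gi k X d F (mc L) u (n - j) m) _ hpos n (fun m => htopc m) (fun j hj m => by
    have h1 := gi_succ k X d F hlu (n - (j + 1)) m
    rw [show n - (j + 1) + 1 = n - j by omega] at h1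
    linarith) n le_rfl
  obtain ⟨c, hc, m₀, h⟩ := h
  refine ⟨c, hc, m₀, fun m hm => (h m hm).trans (le_of_eq ?_)⟩
  simp only [Nat.sub_self]
  rw [gi_zero, ← mc_tensorPow, chiCl_mc, Fga.IntAdd.eulerCharLE_eq k X d hd]
  norm_cast
  exact Pic13.H946.CoreGood.euler_congr' (by rw [mc_tensor, mc_tensor, mul_comm])

end K909.ChiGrow
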