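import Groth.Agent.Variety.K424.TrdMap
import Groth.Agent.Variety.K426.Cut
import Groth.Agent.Variety.K426.DimFib
import Groth.Agent.Variety.K426.DimKit
import Mathlib.AlgebraicGeometry.ResidueField

/-!
# Points of a closed subset over the generic point

`h : T ⟶ B` a morphism of irreducible schemes of finite type over a field `k` with `dim T = dim B + 1`,
`Z ⊊ T` closed.  The points of `Z` over the generic point of `B` are maximal points of `Z`, finitely many,
with finite residue field extension; hence finitely many geometric points over a given geometric generic point.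
-/

set_option autoImplicit false
universe u
open CategoryTheory CategoryTheory.Limits AlgebraicGeometry TopologicalSpace Topology
open Groth.Agent Groth.Agent.VarietyB

namespace K909.GenPts

section Top

/-- A maximal point of a closed subset `Z` of a Noetherian space, lying in the closure of `Z \ R` with `R` closed,
does not lie in `R`. -/
theorem notMem_of_mem_closure {X : Type*} [TopologicalSpace X] [NoetherianSpace X] [QuasiSober X]
    {Z R : Set X} (hZ : IsClosed Z) (hR : IsClosed R) (p : X) (hmax : ∀ z ∈ Z, z ⤳ p → z = p)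
    (hp : p ∈ closure (Z \ R)) : p ∉ R := by
  intro hpR
  set W : Set X := closure (Z \ R) with hW
  have hWZ : W ⊆ Z := closure_minimal Set.sdiff_subset hZ
  have hcomp := K426.Cut.exists_mem_irreducibleComponents (W := W) p hp
    (fun z hz hzp => hmax z (hWZ hz) hzp) isClosed_closure
  obtain ⟨o, ho, hne, hle⟩ := NoetherianSpace.exists_isOpen_nonempty_subset_irreducibleComponent _ hcomp
  obtain ⟨U, hU, rfl⟩ := isOpen_induced_iff.1 ho
  obtain ⟨⟨x, hxW⟩, hxU⟩ := hne
  obtain ⟨y, hyU, hyZ, hyR⟩ := mem_closure_iff.1 hxW U hU hxU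
  have hyW : y ∈ W := subset_closure ⟨hyZ, hyR⟩
  have h1 : (⟨y, hyW⟩ : W) ∈ (Subtype.val ⁻¹' closure {p} : Set W) := hle hyU
  exact hyR (hR.closure_subset_iff.2 (Set.singleton_subset_iff.2 hpR) h1)

/-- Maximal points are finitely many. -/
theorem finite_max {X : Type*} [TopologicalSpace X] [NoetherianSpace X] [QuasiSober X] [T0Space X]
    {Z : Set X} (hZ : IsClosed Z) : {p : X | p ∈ Z ∧ ∀ z ∈ Z, z ⤳ p → z = p}.Finite := by
  have hfin : (irreducibleComponents Z).Finite := NoetherianSpace.finite_irreducibleComponents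
  refine Set.Finite.of_finite_image (f := fun y => (Subtype.val ⁻¹' (closure {y}) : Set Z)) (hfin.subset ?_) ?_
  · rintro _ ⟨y, ⟨hyT, hyd⟩, rfl⟩
    exact K426.Cut.exists_mem_irreducibleComponents y hyT hyd hZ
  · rintro y ⟨hyT, -⟩ z ⟨hzT, -⟩ heq
    have hy : (⟨y, hyT⟩ : Z) ∈ (Subtype.val ⁻¹' (closure {y}) : Set Z) := subset_closure rfl
    have hz : (⟨z, hzT⟩ : Z) ∈ (Subtype.val ⁻¹' (closure {z}) : Set Z) := subset_closure rfl
    simp only at heq
    rw [heq] at hy
    rw [← heq] at hz
    exact ((specializes_iff_mem_closure.mpr hz).antisymm (specializes_iff_mem_closure.mpr hy)).eq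

end Top

section Gen

variable (k : Type u) [Field k] {T B : Scheme.{u}} [T.Over (Spec (CommRingCat.of k))]
  [B.Over (Spec (CommRingCat.of k))] [LocallyOfFiniteType (T ↘ (Spec (CommRingCat.of k)))]
  [LocallyOfFiniteType (B ↘ (Spec (CommRingCat.of k)))] [IrreducibleSpace T] [IrreducibleSpace B]
  (h : T ⟶ B) (hh : h ≫ (B ↘ (Spec (CommRingCat.of k))) = T ↘ (Spec (CommRingCat.of k)))
  (hdim : DimSch.trd k T (genericPoint T) = DimSch.trd k B (genericPoint B) + 1)
  {Z : Set T} (hZ : IsClosed Z) (hZ' : Z ≠ Set.univ)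

include hh hdim hZ hZ'

theorem trd_eq (z : T) (hz : z ∈ Z) (hzB : h z = genericPoint B) :
    DimSch.trd k T z = DimSch.trd k B (genericPoint B) := by
  have h1 := K426.DimKit.trd_map_le k h hh z
  rw [hzB] at h1
  have hne : genericPoint T ≠ z := by
    rintro rfl
    apply hZ'
    rw [← Set.univ_subset_iff, ← genericPoint_closure]
    exact hZ.closure_subset_iff.2 (by rintro _ rfl; exact hz)
  have h2 := K426.Cut.trd_lt k ((genericPoint_spec T).specializes (trivial : z ∈ Set.univ)) hne
  omega

theorem max (z : T) (hz : z ∈ Z) (hzB : h z = genericPoint B) : ∀ z' ∈ Z, z' ⤳ z → z' = z := by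
  intro z' hz' hsp
  by_contra hne
  have hB : h z' = genericPoint B := by
    have h1 : h z' ⤳ genericPoint B := by rw [← hzB]; exact hsp.map h.continuous
    exact (h1.antisymm (genericPoint_specializes _)).eq
  have h1 := trd_eq k h hh hdim hZ hZ' z hz hzB
  have h2 := trd_eq k h hh hdim hZ hZ' z' hz' hB
  have h3 := K426.Cut.trd_lt k hsp hne
  omega

theorem finite_gen [NoetherianSpace T] : {z : T | z ∈ Z ∧ h z = genericPoint B}.Finite := by
  refine (finite_max hZ).subset ?_
  rintro z ⟨hz, hzB⟩
  exact ⟨hz, max k h hh hdim hZ hZ' z hz hzB⟩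

theorem residue_finite (z : T) (hz : z ∈ Z) (hzB : h z = genericPoint B) : (h.residueFieldMap z).hom.Finite := by
  have : LocallyOfFiniteType h := K426.DimKit.locallyOfFiniteType_of_over k h hh
  apply K424.TrdMap.residueFieldMap_finite k h hh z
  rw [K426.DimKit.trd_cast, K426.DimKit.trd_cast, trd_eq k h hh hdim hZ hZ' z hz hzB, hzB]

end Gen

section Emb

/-- A geometric point at `x` is given by an embedding of the residue field. -/
theorem exists_emb {X : Scheme.{u}} (Ω : Type u) [Field Ω] (t : Spec (CommRingCat.of Ω) ⟶ X) (x : X)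
    (hx : t (IsLocalRing.closedPoint Ω) = x) :
    ∃ ψ : X.residueField x ⟶ CommRingCat.of Ω, Spec.map ψ ≫ X.fromSpecResidueField x = t := by
  subst hx
  exact ⟨_, Scheme.descResidueField_stalkClosedPointTo_fromSpecResidueField Ω X t⟩

/-- Finitely many geometric points at `z` over a given geometric point, if the residue field extension is finite. -/
theorem finite_emb {T B : Scheme.{u}} (h : T ⟶ B) (z : T) (hfin : (h.residueFieldMap z).hom.Finite)
    (Ω : Type u) [Field Ω] (β : Spec (CommRingCat.of Ω) ⟶ B) :
    {t : Spec (CommRingCat.of Ω) ⟶ T | t ≫ h = β ∧ t (IsLocalRing.closedPoint Ω) = z}.Finite := by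
  by_cases hβ : β (IsLocalRing.closedPoint Ω) = h z
  · obtain ⟨φ, hφ⟩ := exists_emb Ω β (h z) hβ
    let _ := (h.residueFieldMap z).hom.toAlgebra
    let _ := φ.hom.toAlgebra
    have hmf : Module.Finite (B.residueField (h z)) (T.residueField z) := hfin
    have : Finite (T.residueField z →ₐ[B.residueField (h z)] Ω) := inferInstance
    refine (Set.finite_range (fun ψ : T.residueField z →ₐ[B.residueField (h z)] Ω =>
      Spec.map (CommRingCat.ofHom (R := T.residueField z) (S := Ω) ψ.toRingHom) ≫ T.fromSpecResidueField z)).subset ?_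
    rintro t ⟨ht, htz⟩
    obtain ⟨ψ, hψ⟩ := exists_emb Ω t z htz
    have h1 : h.residueFieldMap z ≫ ψ = φ := by
      apply Spec.map_injective
      rw [← cancel_mono (B.fromSpecResidueField (h z)), hφ, Spec.map_comp, Category.assoc,
        Scheme.Hom.SpecMap_residueFieldMap_fromSpecResidueField, ← Category.assoc, hψ, ht]
    refine ⟨⟨ψ.hom, fun r => ?_⟩, ?_⟩
    · exact congr($h1 r)
    · exact hψ
  · convert Set.finite_empty
    ext t
    simp only [Set.mem_setOf_eq, Set.mem_empty_iff_false, iff_false, not_and]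
    intro ht htz
    exact hβ (by rw [← ht, Scheme.Hom.comp_apply, htz])

end Emb

end K909.GenPts
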