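import Groth.Agent.Resolve.K588.StepAux
import Groth.Agent.Vanish.K660.AltE
import Groth.Agent.CycB.ImageInt
import Groth.Agent.Mor.K386.HQP
import Groth.Agent.S9692
import Groth.Agent.S9693

/-!
# A projective model on which finitely many geometric points of `C` become morphisms
-/

set_option autoImplicit false
universe u
open CategoryTheory CategoryTheory.Limits AlgebraicGeometry TopologicalSpace Topology
open Groth.Agent

namespace K909.GeoModel

theorem exists_model {k : Type u} [Field k] {B C : Scheme.{u}} (b : B ⟶ Spec (CommRingCat.of k))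
    (c : C ⟶ Spec (CommRingCat.of k)) [IsIntegral B] (hb : RelProj.IsHProjective b)
    (hc : RelProj.IsHProjective c) (Ω : Type u) [Field Ω] (β : Spec (CommRingCat.of Ω) ⟶ B)
    (hβ : β (IsLocalRing.closedPoint Ω) = genericPoint B) :
    ∀ (N : ℕ) (t : Fin N → (Spec (CommRingCat.of Ω) ⟶ C)), (∀ i, t i ≫ c = β ≫ b) →
    ∃ (Y : Scheme.{u}) (h : Y ⟶ B) (l : Spec (CommRingCat.of Ω) ⟶ Y) (τ : Fin N → (Y ⟶ C)),
      IsIntegral Y ∧ RelProj.IsHProjective (h ≫ b) ∧ Surjective h ∧ IsProper h ∧ l ≫ h = β ∧
      IsDominant l ∧ (∀ i, τ i ≫ c = h ≫ b) ∧ (∀ i, l ≫ τ i = t i) := by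
  intro N
  induction N with
  | zero =>
    intro t ht
    refine ⟨B, 𝟙 B, β, fun i => i.elim0, inferInstance, by simpa using hb, inferInstance, inferInstance, by simp,
      ?_, fun i => i.elim0, fun i => i.elim0⟩
    refine ⟨?_⟩
    rw [DenseRange, dense_iff_closure_eq, ← Set.univ_subset_iff, ← genericPoint_closure]
    exact closure_mono (by rintro _ rfl; exact ⟨_, hβ⟩)
  | succ N ih =>
    intro t ht
    obtain ⟨Y, h, l, τ, hY, hYp, hs, hp, hl, hld, hτ, hτ'⟩ := ih (fun i => t i.castSucc) (fun i => ht _)
    let Q : Scheme.{u} := pullback (h ≫ b) c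
    let m : Spec (CommRingCat.of Ω) ⟶ Q := pullback.lift l (t (Fin.last N)) (by
      rw [ht, ← Category.assoc, hl])
    have hm1 : m ≫ pullback.fst _ _ = l := pullback.lift_fst _ _ _
    have hm2 : m ≫ pullback.snd _ _ = t (Fin.last N) := pullback.lift_snd _ _ _
    have hYpr : IsProper (h ≫ b) := K588.HProj.isProper hYp
    have hcpr : IsProper c := K588.HProj.isProper hc
    have hqc : QuasiCompact m := inferInstance
    have hint : IsIntegral m.image := CycB.ImageInt.isIntegral_image m
    have hfstP : RelProj.IsHProjective (pullback.fst (h ≫ b) c) :=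
      K386.HQP.isHProjective_of_isPullback (IsPullback.of_hasPullback (h ≫ b) c).flip hc
    have hQP : RelProj.IsHProjective (pullback.fst (h ≫ b) c ≫ h ≫ b) := S9692.result _ _ hfstP hYp
    have hIP : RelProj.IsHProjective (m.imageι ≫ pullback.fst (h ≫ b) c ≫ h ≫ b) :=
      K588.HProj.comp_finite hQP m.imageι
    let h' : m.image ⟶ B := m.imageι ≫ pullback.fst (h ≫ b) c ≫ h
    have hh' : h' ≫ b = m.imageι ≫ pullback.fst (h ≫ b) c ≫ h ≫ b := by simp [h']
    have hl' : m.toImage ≫ h' = β := by
      simp only [h']
      rw [Scheme.Hom.toImage_imageι_assoc, ← Category.assoc, hm1, hl]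
    have hpr' : IsProper h' := by
      have : IsProper (h' ≫ b) := by rw [hh']; exact K588.HProj.isProper hIP
      have : IsProper b := K588.HProj.isProper hb
      exact IsProper.of_comp h' b
    have hdom : IsDominant m.toImage := inferInstance
    have hgen : h' (genericPoint m.image) = genericPoint B := by
      have h1 := CycB.ImageInt.toImage_genericPoint m
      rw [← h1, ← Scheme.Hom.comp_apply, hl', ← hβ]
      congr 1
      exact Subsingleton.elim _ _
    refine ⟨m.image, h', m.toImage, Fin.lastCases (m.imageι ≫ pullback.snd (h ≫ b) c)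
      (fun i => m.imageι ≫ pullback.fst (h ≫ b) c ≫ τ i), hint, by rw [hh']; exact hIP,
      K660.AltE.surjective_of_isClosedMap h' h'.isClosedMap hgen, hpr', hl', hdom, ?_, ?_⟩
    · intro i
      induction i using Fin.lastCases with
      | last => simp [h', pullback.condition]
      | cast i => simp [h', hτ]
    · intro i
      induction i using Fin.lastCases with
      | last => simp [hm2]
      | cast i =>
        simp only [Fin.lastCases_castSucc]
        rw [Scheme.Hom.toImage_imageι_assoc, ← Category.assoc, hm1, hτ']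

end K909.GeoModel
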