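import Groth.Agent.Vanish.K909.GenPts
import Groth.Agent.Vanish.K909.GeoModel
import Groth.Agent.Vanish.K660.DimFin
import Groth.Agent.CycA.ProdDim
import Mathlib.AlgebraicGeometry.Geometrically.Integral

/-!
# Splitting a closed subset of `B ×_k C` into sections after an alteration of `B`
-/

set_option autoImplicit false
universe u
open CategoryTheory CategoryTheory.Limits AlgebraicGeometry TopologicalSpace Topology
open Groth.Agent Groth.Agent.VarietyB

namespace K909.SplitSec

theorem trd_eq_of_isIntegralHom (k : Type u) [Field k] {X Y : Scheme.{u}} [X.Over (Spec (CommRingCat.of k))]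
    [Y.Over (Spec (CommRingCat.of k))] (f : X ⟶ Y)
    (hf : f ≫ (Y ↘ (Spec (CommRingCat.of k))) = X ↘ (Spec (CommRingCat.of k)))
    [IsIntegralHom f] (x : X) : ResMap.trd k Y (f x) = ResMap.trd k X x := by
  rw [K424.TrdMap.trd_add k f hf x]
  let _ : Algebra (Y.residueField (f.base x)) (X.residueField x) :=
      (f.residueFieldMap x).hom.toAlgebra
  have h2 : Algebra.IsAlgebraic (Y.residueField (f x)) (X.residueField x) :=
    K151.ResInt.isAlgebraic_of_isIntegralHom f x
  rw [trdeg_eq_zero_iff.mpr h2, add_zero]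

/-- the dimension does not change for a model dominated by an algebraic geometric point -/
theorem dim_eq {k : Type u} [Field k] {B Y : Scheme.{u}} [IsIntegral B] [IsIntegral Y]
    (b : B ⟶ Spec (CommRingCat.of k)) [LocallyOfFiniteType b] (h : Y ⟶ B) [LocallyOfFiniteType (h ≫ b)]
    (Ω : Type u) [Field Ω] (φ : B.residueField (genericPoint B) ⟶ CommRingCat.of Ω) (hφ : φ.hom.IsIntegral)
    (l : Spec (CommRingCat.of Ω) ⟶ Y) (hl : l ≫ h = Spec.map φ ≫ B.fromSpecResidueField (genericPoint B))
    (hlg : l (IsLocalRing.closedPoint Ω) = genericPoint Y) (hhg : h (genericPoint Y) = genericPoint B) :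
    topologicalKrullDim Y = topologicalKrullDim B := by
  let iB : B.Over (Spec (CommRingCat.of k)) := ⟨b⟩
  let iY : Y.Over (Spec (CommRingCat.of k)) := ⟨h ≫ b⟩
  let iR : (Spec (B.residueField (genericPoint B))).Over (Spec (CommRingCat.of k)) :=
    ⟨B.fromSpecResidueField (genericPoint B) ≫ b⟩
  let iΩ : (Spec (CommRingCat.of Ω)).Over (Spec (CommRingCat.of k)) :=
    ⟨Spec.map φ ≫ B.fromSpecResidueField (genericPoint B) ≫ b⟩
  have : LocallyOfFiniteType (B ↘ (Spec (CommRingCat.of k))) := inferInstanceAs (LocallyOfFiniteType b)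
  have : LocallyOfFiniteType (Y ↘ (Spec (CommRingCat.of k))) := inferInstanceAs (LocallyOfFiniteType (h ≫ b))
  have hint : IsIntegralHom (Spec.map φ) := IsIntegralHom.SpecMap_iff.2 hφ
  have h1 : ResMap.trd k Y (l (IsLocalRing.closedPoint Ω)) ≤
      ResMap.trd k (Spec (CommRingCat.of Ω)) (IsLocalRing.closedPoint Ω) := by
    refine K424.TrdMap.trd_le k l ?_ _
    change l ≫ h ≫ b = Spec.map φ ≫ B.fromSpecResidueField (genericPoint B) ≫ b
    rw [← Category.assoc, hl, Category.assoc]
  have h2 : ResMap.trd k (Spec (B.residueField (genericPoint B)))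
      (Spec.map φ (IsLocalRing.closedPoint Ω)) =
      ResMap.trd k (Spec (CommRingCat.of Ω)) (IsLocalRing.closedPoint Ω) :=
    trd_eq_of_isIntegralHom k (Spec.map φ) rfl _
  have h3 : ResMap.trd k B (B.fromSpecResidueField (genericPoint B)
      (Spec.map φ (IsLocalRing.closedPoint Ω))) = ResMap.trd k (Spec (B.residueField (genericPoint B)))
      (Spec.map φ (IsLocalRing.closedPoint Ω)) :=
    ResMap.trd_eq k (B.fromSpecResidueField (genericPoint B)) rfl _
  rw [Scheme.fromSpecResidueField_apply] at h3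
  rw [hlg, ← h2, ← h3] at h1
  have h4 : ResMap.trd k B (h (genericPoint Y)) ≤ ResMap.trd k Y (genericPoint Y) :=
    K424.TrdMap.trd_le k h rfl _
  rw [hhg] at h4
  have h5 := le_antisymm h1 h4
  rw [K426.DimKit.trd_cast, K426.DimKit.trd_cast] at h5
  rw [DimSch.topologicalKrullDim_eq_trd k (X := Y), DimSch.topologicalKrullDim_eq_trd k (X := B)]
  exact_mod_cast h5

/-- After an alteration `h : Y ⟶ B`, a closed subset `Z` of `B ×_k C` (`C` a curve) becomes, away from the preimage of a
proper closed subset `W` of `Y`, contained in a union of graphs of distinct morphisms `τ i : Y ⟶ C`. -/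
theorem exists_split {k : Type u} [Field k] {B C : Scheme.{u}} (b : B ⟶ Spec (CommRingCat.of k))
    (c : C ⟶ Spec (CommRingCat.of k)) [IsIntegral B] [IsIntegral C] (hb : RelProj.IsHProjective b)
    (hc : RelProj.IsHProjective c) [GeometricallyIntegral c] (hC : topologicalKrullDim C = 1)
    (Z : Set ↥(pullback b c)) (hZ : IsClosed Z) (hZ' : Z ≠ Set.univ) :
    ∃ (Y : Scheme.{u}) (h : Y ⟶ B) (N : ℕ) (τ : Fin N → (Y ⟶ C)) (hτ : ∀ i, τ i ≫ c = h ≫ b) (W : Set Y),
      IsIntegral Y ∧ RelProj.IsHProjective (h ≫ b) ∧ Surjective h ∧ IsProper h ∧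
      topologicalKrullDim Y = topologicalKrullDim B ∧ Function.Injective τ ∧ IsClosed W ∧ W ≠ Set.univ ∧
      ∀ p : ↥(pullback (h ≫ b) c), (pullback.map (h ≫ b) c b c h (𝟙 C) (𝟙 _) (by simp) (by simp)) p ∈ Z →
        (pullback.fst (h ≫ b) c) p ∈ W ∨
          ∃ i, p ∈ Set.range (pullback.lift (f := h ≫ b) (g := c) (𝟙 Y) (τ i) (by rw [hτ, Category.id_comp])) := by
  have hbp : IsProper b := K588.HProj.isProper hb
  have hcp : IsProper c := K588.HProj.isProper hc
  have hBn : IsLocallyNoetherian B := LocallyOfFiniteType.isLocallyNoetherian b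
  -- the product `T`
  have hTint : IsIntegral (pullback b c) := inferInstance
  let iB : B.Over (Spec (CommRingCat.of k)) := ⟨b⟩
  let iT : (pullback b c).Over (Spec (CommRingCat.of k)) := ⟨pullback.fst b c ≫ b⟩
  have hBft : LocallyOfFiniteType (B ↘ (Spec (CommRingCat.of k))) := inferInstanceAs (LocallyOfFiniteType b)
  have hTft : LocallyOfFiniteType ((pullback b c) ↘ (Spec (CommRingCat.of k))) :=
    inferInstanceAs (LocallyOfFiniteType (pullback.fst b c ≫ b))
  have hTc : CompactSpace ↥(pullback b c) := by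
    have : QuasiCompact (pullback.fst b c ≫ b) := inferInstance
    exact QuasiCompact.compactSpace_of_compactSpace (pullback.fst b c ≫ b)
  have hTn : IsLocallyNoetherian (pullback b c) := LocallyOfFiniteType.isLocallyNoetherian (pullback.fst b c ≫ b)
  have hTN : IsNoetherian (pullback b c) := ⟨⟩
  have hdimT : DimSch.trd k (pullback b c) (genericPoint ↥(pullback b c)) =
      DimSch.trd k B (genericPoint B) + 1 := by
    obtain ⟨n, m, h1, h2, h3⟩ := CycA.ProdDim.exists_dim_pullback b c
    rw [DimSch.topologicalKrullDim_eq_trd k (X := B)] at h1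
    rw [DimSch.topologicalKrullDim_eq_trd k (X := pullback b c)] at h3
    rw [hC] at h2
    have e2 : (1 : ℕ) = m := by exact_mod_cast h2
    subst e2
    have e1 : DimSch.trd k B (genericPoint B) = n := by exact_mod_cast h1
    have e3 : DimSch.trd k (pullback b c) (genericPoint ↥(pullback b c)) = n + 1 := by exact_mod_cast h3
    omega
  -- the geometric generic point
  let Ω : Type u := AlgebraicClosure (B.residueField (genericPoint B))
  let φ₀ : B.residueField (genericPoint B) ⟶ CommRingCat.of Ω :=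
    CommRingCat.ofHom (algebraMap (B.residueField (genericPoint B)) Ω)
  have hφ₀ : φ₀.hom.IsIntegral := fun x => (Algebra.IsAlgebraic.isAlgebraic x).isIntegral
  let β : Spec (CommRingCat.of Ω) ⟶ B := Spec.map φ₀ ≫ B.fromSpecResidueField (genericPoint B)
  have hβ : β (IsLocalRing.closedPoint Ω) = genericPoint B := by
    simp only [β]
    rw [Scheme.Hom.comp_apply, Scheme.fromSpecResidueField_apply]
  -- the geometric points of `Z`
  let S : Set (Spec (CommRingCat.of Ω) ⟶ pullback b c) :=
    {t | t ≫ pullback.fst b c = β ∧ t (IsLocalRing.closedPoint Ω) ∈ Z}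
  have hS : S.Finite := by
    refine ((GenPts.finite_gen k (pullback.fst b c) rfl hdimT hZ hZ').biUnion
      (t := fun z => {t : Spec (CommRingCat.of Ω) ⟶ pullback b c |
        t ≫ pullback.fst b c = β ∧ t (IsLocalRing.closedPoint Ω) = z}) ?_).subset ?_
    · rintro z ⟨hz, hzB⟩
      exact GenPts.finite_emb (pullback.fst b c) z
        (GenPts.residue_finite k (pullback.fst b c) rfl hdimT hZ hZ' z hz hzB) Ω β
    · rintro t ⟨ht, htZ⟩
      refine Set.mem_biUnion (x := t (IsLocalRing.closedPoint Ω)) ⟨htZ, ?_⟩ ⟨ht, rfl⟩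
      rw [← Scheme.Hom.comp_apply, ht, hβ]
  have : Finite S := hS
  obtain ⟨N, ⟨e⟩⟩ := Finite.exists_equiv_fin S
  let t : Fin N → (Spec (CommRingCat.of Ω) ⟶ C) := fun i => (e.symm i).1 ≫ pullback.snd b c
  have ht : ∀ i, t i ≫ c = β ≫ b := fun i => by
    simp only [t, Category.assoc]
    rw [← pullback.condition, ← Category.assoc, (e.symm i).2.1]
  have htinj : Function.Injective t := by
    intro i j hij
    apply e.symm.injective
    apply Subtype.ext
    apply pullback.hom_ext
    · rw [(e.symm i).2.1, (e.symm j).2.1]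
    · exact hij
  obtain ⟨Y, h, l, τ, hY, hYp, hs, hp, hl, hld, hτ, hτ'⟩ :=
    GeoModel.exists_model b c hb hc Ω β hβ N t ht
  have hYpr : IsProper (h ≫ b) := K588.HProj.isProper hYp
  have hhg : h (genericPoint Y) = genericPoint B := K660.AltE.map_genericPoint h
  have hlg : l (IsLocalRing.closedPoint Ω) = genericPoint Y := by
    have h1 : Dense (Set.range l) := hld.1
    have h2 : Set.range l = {l (IsLocalRing.closedPoint Ω)} := by
      ext y
      constructor
      · rintro ⟨x, rfl⟩
        exact congrArg l (Subsingleton.elim _ _)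
      · rintro rfl
        exact ⟨_, rfl⟩
    rw [h2] at h1
    exact ((genericPoint_spec Y).eq h1.closure_eq).symm
  have hτinj : Function.Injective τ := by
    intro i j hij
    apply htinj
    rw [← hτ', ← hτ', hij]
  have hdimY : topologicalKrullDim Y = topologicalKrullDim B :=
    dim_eq b h Ω φ₀ hφ₀ l hl hlg hhg
  -- the product `P`
  have hYn : IsLocallyNoetherian Y := LocallyOfFiniteType.isLocallyNoetherian (h ≫ b)
  have hPint : IsIntegral (pullback (h ≫ b) c) := inferInstance
  let iY : Y.Over (Spec (CommRingCat.of k)) := ⟨h ≫ b⟩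
  let iP : (pullback (h ≫ b) c).Over (Spec (CommRingCat.of k)) := ⟨pullback.fst (h ≫ b) c ≫ h ≫ b⟩
  have hYft : LocallyOfFiniteType (Y ↘ (Spec (CommRingCat.of k))) := inferInstanceAs (LocallyOfFiniteType (h ≫ b))
  have hPft : LocallyOfFiniteType ((pullback (h ≫ b) c) ↘ (Spec (CommRingCat.of k))) :=
    inferInstanceAs (LocallyOfFiniteType (pullback.fst (h ≫ b) c ≫ h ≫ b))
  have hPc : CompactSpace ↥(pullback (h ≫ b) c) := by
    have : QuasiCompact (pullback.fst (h ≫ b) c ≫ h ≫ b) := inferInstance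
    exact QuasiCompact.compactSpace_of_compactSpace (pullback.fst (h ≫ b) c ≫ h ≫ b)
  have hPn : IsLocallyNoetherian (pullback (h ≫ b) c) :=
    LocallyOfFiniteType.isLocallyNoetherian (pullback.fst (h ≫ b) c ≫ h ≫ b)
  have hPN : IsNoetherian (pullback (h ≫ b) c) := ⟨⟩
  have hdimP : DimSch.trd k (pullback (h ≫ b) c) (genericPoint ↥(pullback (h ≫ b) c)) =
      DimSch.trd k Y (genericPoint Y) + 1 := by
    obtain ⟨n, m, h1, h2, h3⟩ := CycA.ProdDim.exists_dim_pullback (h ≫ b) c
    rw [DimSch.topologicalKrullDim_eq_trd k (X := Y)] at h1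
    rw [DimSch.topologicalKrullDim_eq_trd k (X := pullback (h ≫ b) c)] at h3
    rw [hC] at h2
    have e2 : (1 : ℕ) = m := by exact_mod_cast h2
    subst e2
    have e1 : DimSch.trd k Y (genericPoint Y) = n := by exact_mod_cast h1
    have e3 : DimSch.trd k (pullback (h ≫ b) c) (genericPoint ↥(pullback (h ≫ b) c)) = n + 1 := by
      exact_mod_cast h3
    omega
  let g : pullback (h ≫ b) c ⟶ pullback b c :=
    pullback.map (h ≫ b) c b c h (𝟙 C) (𝟙 _) (by simp) (by simp)
  have hg1 : g ≫ pullback.fst b c = pullback.fst (h ≫ b) c ≫ h := pullback.lift_fst _ _ _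
  have hg2 : g ≫ pullback.snd b c = pullback.snd (h ≫ b) c := by
    simp only [g, pullback.map, pullback.lift_snd, Category.comp_id]
  have hgpb : IsPullback g (pullback.fst (h ≫ b) c) (pullback.fst b c) h := by
    refine (IsPullback.of_right (h₁₂ := pullback.snd b c) (v₁₃ := c) (h₂₂ := b) ?_ hg1
      (IsPullback.of_hasPullback b c).flip)
    rw [hg2]
    exact (IsPullback.of_hasPullback (h ≫ b) c).flip
  have hgs : Surjective g := MorphismProperty.of_isPullback (P := @Surjective) hgpb.flip hs
  let ZY : Set ↥(pullback (h ≫ b) c) := g ⁻¹' Z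
  have hZY : IsClosed ZY := hZ.preimage g.continuous
  have hZY' : ZY ≠ Set.univ := by
    intro hu
    apply hZ'
    rw [← Set.univ_subset_iff]
    intro z _
    obtain ⟨p, rfl⟩ := g.surjective z
    have : p ∈ ZY := hu ▸ Set.mem_univ p
    exact this
  let σ : Fin N → (Y ⟶ pullback (h ≫ b) c) := fun i =>
    pullback.lift (f := h ≫ b) (g := c) (𝟙 Y) (τ i) (by rw [hτ, Category.id_comp])
  have hσ1 : ∀ i, σ i ≫ pullback.fst (h ≫ b) c = 𝟙 Y := fun i => pullback.lift_fst _ _ _
  have hσ2 : ∀ i, σ i ≫ pullback.snd (h ≫ b) c = τ i := fun i => pullback.lift_snd _ _ _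
  let R : Set ↥(pullback (h ≫ b) c) := ⋃ i, Set.range (σ i)
  have hR : IsClosed R := by
    refine isClosed_iUnion_of_finite fun i => ?_
    have : IsClosedImmersion (σ i) := K588.StepAux.isClosedImmersion_section (pullback.fst (h ≫ b) c) (hσ1 i)
    exact (σ i).isClosedEmbedding.isClosed_range
  let W : Set Y := (pullback.fst (h ≫ b) c) '' closure (ZY \ R)
  have hW : IsClosed W := (pullback.fst (h ≫ b) c).isClosedMap _ isClosed_closure
  have key : ∀ p : ↥(pullback (h ≫ b) c), p ∈ ZY → (pullback.fst (h ≫ b) c) p = genericPoint Y → p ∈ R := by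
    intro p hp' hpY
    have hfin : ((pullback.fst (h ≫ b) c).residueFieldMap p).hom.Finite :=
      GenPts.residue_finite k (pullback.fst (h ≫ b) c) rfl hdimP hZY hZY' p hp' hpY
    obtain ⟨φ, hφ⟩ := GenPts.exists_emb Ω l ((pullback.fst (h ≫ b) c) p) (by rw [hlg, hpY])
    let _ := ((pullback.fst (h ≫ b) c).residueFieldMap p).hom.toAlgebra
    let _ := φ.hom.toAlgebra
    have hmf : Module.Finite (Y.residueField ((pullback.fst (h ≫ b) c) p))
      ((pullback (h ≫ b) c).residueField p) := hfin
    have halg : Algebra.IsAlgebraic (Y.residueField ((pullback.fst (h ≫ b) c) p))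
      ((pullback (h ≫ b) c).residueField p) := inferInstance
    let ψ : (pullback (h ≫ b) c).residueField p →ₐ[Y.residueField ((pullback.fst (h ≫ b) c) p)] Ω :=
      IsAlgClosed.lift
    let ψ' : (pullback (h ≫ b) c).residueField p ⟶ CommRingCat.of Ω := CommRingCat.ofHom ψ.toRingHom
    have hψ' : (pullback.fst (h ≫ b) c).residueFieldMap p ≫ ψ' = φ := by
      ext r
      exact ψ.commutes r
    let q : Spec (CommRingCat.of Ω) ⟶ pullback (h ≫ b) c :=
      Spec.map ψ' ≫ (pullback (h ≫ b) c).fromSpecResidueField p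
    have hq1 : q ≫ pullback.fst (h ≫ b) c = l := by
      simp only [q, Category.assoc]
      rw [← Scheme.Hom.SpecMap_residueFieldMap_fromSpecResidueField, ← Category.assoc, ← Spec.map_comp, hψ', hφ]
    have hqp : q (IsLocalRing.closedPoint Ω) = p := by
      simp only [q]
      rw [Scheme.Hom.comp_apply, Scheme.fromSpecResidueField_apply]
    have hqS : q ≫ g ∈ S := by
      refine ⟨?_, ?_⟩
      · rw [Category.assoc, hg1, ← Category.assoc, hq1, hl]
      · rw [Scheme.Hom.comp_apply, hqp]
        exact hp'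
    obtain ⟨j, hti⟩ : ∃ j, t j = q ≫ pullback.snd (h ≫ b) c := ⟨e ⟨q ≫ g, hqS⟩, by
      simp only [t, Equiv.symm_apply_apply, Category.assoc, hg2]⟩
    have hqσ : q = l ≫ σ j := by
      apply pullback.hom_ext
      · refine hq1.trans ?_
        rw [Category.assoc, hσ1, Category.comp_id]
      · refine hti.symm.trans ?_
        rw [Category.assoc, hσ2, hτ']
    refine Set.mem_iUnion.2 ⟨j, l (IsLocalRing.closedPoint Ω), ?_⟩
    rw [← Scheme.Hom.comp_apply, ← hqσ, hqp]
  refine ⟨Y, h, N, τ, hτ, W, hY, hYp, hs, hp, hdimY, hτinj, hW, ?_, ?_⟩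
  · intro hu
    have h1 : genericPoint Y ∈ W := hu ▸ Set.mem_univ _
    obtain ⟨p, hpc, hpY⟩ := h1
    have hpZ : p ∈ ZY := closure_minimal Set.sdiff_subset hZY hpc
    exact GenPts.notMem_of_mem_closure hZY hR p
      (GenPts.max k (pullback.fst (h ≫ b) c) rfl hdimP hZY hZY' p hpZ hpY) hpc (key p hpZ hpY)
  · intro p hp'
    by_cases hpR : p ∈ R
    · exact Or.inr (Set.mem_iUnion.1 hpR)
    · exact Or.inl ⟨p, subset_closure ⟨hp', hpR⟩, rfl⟩

end K909.SplitSec
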